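import Groth.Agent.DRingLib.PCMore
import Groth.Agent.DRingLib.PCPerf
import Groth.Agent.DRingLib.PCRegular
import Groth.Agent.DRingLib.PCRes
import Mathlib.RingTheory.Finiteness.Descent
import Mathlib.RingTheory.Localization.Finiteness
import Mathlib.RingTheory.Flat.FaithfullyFlat.Algebra

/-!
# Pseudo-coherent modules through finite covers
-/

universe u

set_option autoImplicit false
set_option backward.isDefEq.respectTransparency false
set_option linter.style.haveILetI false

open CategoryTheory CategoryTheory.Pretriangulated TensorProduct Function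
attribute [local instance] HasDerivedCategory.standard

namespace Groth.Agent.FlatMorPerfect

section

variable (R : Type u) [CommRing R]

/-- `M` is `(-k)`-pseudo-coherent. -/
abbrev PC (k : ℕ) (M : Type u) [AddCommGroup M] [Module R M] : Prop :=
  DRing.IsPseudoCoherentModule R (-(k : ℤ)) M

variable {R}
variable {L P M : Type u} [AddCommGroup L] [Module R L] [AddCommGroup P] [Module R P]
  [AddCommGroup M] [Module R M] {f : L →ₗ[R] P} {g : P →ₗ[R] M} {k : ℕ}

theorem pc_zero_iff : PC R 0 M ↔ Module.Finite R M := by
  rw [PC, Nat.cast_zero, neg_zero, DRingLib.module_pc_zero_iff]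

theorem pc_finite (h : PC R k M) : Module.Finite R M :=
  (DRingLib.module_pc_zero_iff M).1 (DRingLib.pc_mono (by omega) h)

theorem pc_free [Module.Finite R M] [Module.Projective R M] (k : ℕ) : PC R k M :=
  DRingLib.pc_of_perfect (DRingLib.perfect_inD_projective M) _

theorem pc'_iff_forall : DRing.IsPseudoCoherentModule' R M ↔ ∀ k : ℕ, PC R k M :=
  ⟨fun h _ => DRingLib.pc_of_pc' h _, fun h => DRingLib.pc'_of_forall fun m =>
    DRingLib.pc_mono (m := -((-m).toNat : ℤ)) (by omega) (h _)⟩

theorem pc_pred (h : PC R (k + 1) M) : PC R k M := DRingLib.pc_mono (by omega) h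

/-- The short exact sequence of modules. -/
theorem exists_triangle (hfg : Exact f g) (hg : Surjective g) (hf : Injective f) :
    ∃ T : Triangle (Dual.D R), T ∈ distinguishedTriangles ∧
      T.obj₁ = Dual.inD R L ∧ T.obj₂ = Dual.inD R P ∧ T.obj₃ = Dual.inD R M := by
  let S : ShortComplex (ModuleCat.{u} R) := ShortComplex.mk (ModuleCat.ofHom f) (ModuleCat.ofHom g)
    (ModuleCat.hom_ext hfg.linearMap_comp_eq_zero)
  have hS : S.ShortExact :=
    { exact := (ShortComplex.ShortExact.moduleCat_exact_iff_function_exact S).2 hfg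
      mono_f := (ModuleCat.mono_iff_injective _).2 hf
      epi_g := (ModuleCat.epi_iff_surjective _).2 hg }
  exact ⟨_, hS.singleTriangle_distinguished, rfl, rfl, rfl⟩

theorem pc_coker (hfg : Exact f g) (hg : Surjective g) (hf : Injective f)
    (hL : PC R k L) (hP : PC R (k + 1) P) : PC R (k + 1) M := by
  obtain ⟨T, hT, h1, h2, h3⟩ := exists_triangle hfg hg hf
  show DRing.IsPseudoCoherent R _ _
  rw [← h3]
  refine DRingLib.pc_cone hT ?_ (h2 ▸ hP)
  rw [h1, show -((k + 1 : ℕ) : ℤ) + 1 = -(k : ℤ) by omega]
  exact hL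

theorem pc_ker (hfg : Exact f g) (hg : Surjective g) (hf : Injective f)
    (hP : PC R k P) (hM : PC R (k + 1) M) : PC R k L := by
  obtain ⟨T, hT, h1, h2, h3⟩ := exists_triangle hfg hg hf
  show DRing.IsPseudoCoherent R _ _
  rw [← h1, show -(k : ℤ) = -((k + 1 : ℕ) : ℤ) + 1 by omega]
  refine DRingLib.pc_fibre hT ?_ (h3 ▸ hM)
  rw [h2, show -((k + 1 : ℕ) : ℤ) + 1 = -(k : ℤ) by omega]
  exact hP

/-- The recursion step. -/
theorem pc_succ_iff : PC R (k + 1) M ↔
    ∃ (r : ℕ) (g : (Fin r → R) →ₗ[R] M), Surjective g ∧ PC R k (LinearMap.ker g) := by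
  constructor
  · intro h
    haveI := pc_finite h
    obtain ⟨r, g, hg⟩ := Module.Finite.exists_fin' R M
    exact ⟨r, g, hg, pc_ker (LinearMap.exact_subtype_ker_map g) hg (Submodule.injective_subtype _)
      (pc_free k) h⟩
  · rintro ⟨r, g, hg, hk⟩
    exact pc_coker (LinearMap.exact_subtype_ker_map g) hg (Submodule.injective_subtype _) hk (pc_free _)

theorem pc_congr (e : P ≃ₗ[R] M) (h : PC R k P) : PC R k M :=
  DRingLib.pc_iso ((DerivedCategory.singleFunctor (ModuleCat.{u} R) 0).mapIso e.toModuleIso) h

end

section Algebra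

variable {A B : Type u} [CommRing A] [CommRing B] [Algebra A B]

theorem pc_pi (hB : ∀ k, PC A k B) : ∀ (r k : ℕ), PC A k (Fin r → B)
  | 0, k => pc_free k
  | r + 1, k => by
    let f : B →ₗ[A] (Fin (r + 1) → B) := LinearMap.single A (fun _ => B) 0
    let g : (Fin (r + 1) → B) →ₗ[A] (Fin r → B) := LinearMap.funLeft A B Fin.succ
    have hfg : Exact f g := by
      intro x
      constructor
      · intro hx
        refine ⟨x 0, funext fun i => ?_⟩
        refine Fin.cases ?_ (fun j => ?_) i
        · simp [f]
        · simpa [f, g, LinearMap.funLeft, Fin.succ_ne_zero] using (congrFun hx j).symm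
      · rintro ⟨b, rfl⟩
        funext j
        simp [f, g, LinearMap.funLeft, Fin.succ_ne_zero]
    have hg : Surjective g := fun y => ⟨Fin.cons 0 y, funext fun j => by simp [g, LinearMap.funLeft]⟩
    have hf : Injective f := fun x y hxy => by simpa [f] using congrFun hxy 0
    obtain ⟨T, hT, h1, h2, h3⟩ := exists_triangle hfg hg hf
    show DRing.IsPseudoCoherent A _ _
    rw [← h2]
    refine DRingLib.pc_ext hT ?_ ?_
    · rw [h1]; exact hB k
    · rw [h3]; exact pc_pi hB r k

/-- Pseudo-coherence over `B` and over `A` agree when `B` is pseudo-coherent over `A`. -/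
theorem pc_iff_of_algebra (hB : ∀ k, PC A k B) : ∀ (k : ℕ) (M : Type u) [AddCommGroup M] [Module A M]
    [Module B M] [IsScalarTower A B M], PC B k M ↔ PC A k M
  | 0, M, _, _, _, _ => by
    haveI : Module.Finite A B := pc_finite (hB 0)
    rw [pc_zero_iff, pc_zero_iff]
    exact ⟨fun _ => Module.Finite.trans B M, fun _ => Module.Finite.of_restrictScalars_finite A B M⟩
  | k + 1, M, _, _, _, _ => by
    constructor
    · intro h
      obtain ⟨r, g, hg, hk⟩ := pc_succ_iff.1 h
      exact pc_coker (f := (LinearMap.ker g).subtype.restrictScalars A) (g := g.restrictScalars A)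
        (LinearMap.exact_subtype_ker_map g) hg (Submodule.injective_subtype _)
        ((pc_iff_of_algebra hB k _).1 hk) (pc_pi hB r (k + 1))
    · intro h
      haveI : Module.Finite A B := pc_finite (hB 0)
      haveI : Module.Finite A M := pc_finite h
      haveI : Module.Finite B M := Module.Finite.of_restrictScalars_finite A B M
      obtain ⟨r, g, hg⟩ := Module.Finite.exists_fin' B M
      exact pc_succ_iff.2 ⟨r, g, hg, (pc_iff_of_algebra hB k _).2
        (pc_ker (f := (LinearMap.ker g).subtype.restrictScalars A) (g := g.restrictScalars A)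
          (LinearMap.exact_subtype_ker_map g) hg (Submodule.injective_subtype _) (pc_pi hB r k) h)⟩

variable {M : Type u} [AddCommGroup M] [Module A M]

/-- The base change of the kernel. -/
theorem kerBaseChange [Module.Flat A B] {P : Type u} [AddCommGroup P] [Module A P] (g : P →ₗ[A] M) :
    Nonempty ((B ⊗[A] LinearMap.ker g) ≃ₗ[B] LinearMap.ker (g.baseChange B)) := by
  have hinj : Injective ((LinearMap.ker g).subtype.baseChange B) :=
    Module.Flat.lTensor_preserves_injective_linearMap _ (Submodule.injective_subtype _)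
  have hex : Exact ((LinearMap.ker g).subtype.baseChange B) (g.baseChange B) :=
    Module.Flat.lTensor_exact B (LinearMap.exact_subtype_ker_map g)
  exact ⟨(LinearEquiv.ofInjective _ hinj).trans (LinearEquiv.ofEq _ _ hex.linearMap_ker_eq.symm)⟩

/-- Flat base change. -/
theorem pc_baseChange [Module.Flat A B] : ∀ (k : ℕ) (M : Type u) [AddCommGroup M] [Module A M],
    PC A k M → PC B k (B ⊗[A] M)
  | 0, M, _, _, h => by
    haveI := pc_zero_iff.1 h
    rw [pc_zero_iff]; infer_instance
  | k + 1, M, _, _, h => by
    obtain ⟨r, g, hg, hk⟩ := pc_succ_iff.1 h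
    obtain ⟨e⟩ := kerBaseChange (B := B) g
    exact pc_coker (LinearMap.exact_subtype_ker_map _) (LinearMap.lTensor_surjective B hg : Surjective (g.baseChange B))
      (Submodule.injective_subtype _) (pc_congr e (pc_baseChange k _ hk)) (pc_free _)

/-- Faithfully flat descent. -/
theorem pc_of_baseChange [Module.FaithfullyFlat A B] : ∀ (k : ℕ) (M : Type u) [AddCommGroup M] [Module A M],
    PC B k (B ⊗[A] M) → PC A k M
  | 0, M, _, _, h => by
    haveI := pc_zero_iff.1 h
    exact pc_zero_iff.2 (Module.Finite.of_finite_tensorProduct_of_faithfullyFlat B)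
  | k + 1, M, _, _, h => by
    haveI := pc_finite h
    haveI : Module.Finite A M := Module.Finite.of_finite_tensorProduct_of_faithfullyFlat B
    obtain ⟨r, g, hg⟩ := Module.Finite.exists_fin' A M
    obtain ⟨e⟩ := kerBaseChange (B := B) g
    exact pc_succ_iff.2 ⟨r, g, hg, pc_of_baseChange k _ (pc_congr e.symm
      (pc_ker (LinearMap.exact_subtype_ker_map _) (LinearMap.lTensor_surjective B hg : Surjective (g.baseChange B))
        (Submodule.injective_subtype _) (pc_free k) h))⟩

end Algebra

section Local

/-- Pseudo-coherence is local. -/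
theorem pc_of_span {A : Type u} [CommRing A] (s : Finset A) (hs : Ideal.span (s : Set A) = ⊤) :
    ∀ (k : ℕ) (M : Type u) [AddCommGroup M] [Module A M],
      (∀ a : s, PC (Localization.Away a.1) k (Localization.Away a.1 ⊗[A] M)) → PC A k M
  | 0, M, _, _, h => by
    rw [pc_zero_iff]
    exact Module.Finite.of_localizationSpan_finite' s hs
      (f := fun a => (TensorProduct.mk A (Localization.Away a.1) M 1)) fun a => pc_zero_iff.1 (h a)
  | k + 1, M, _, _, h => by
    haveI : Module.Finite A M := Module.Finite.of_localizationSpan_finite' s hs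
      (f := fun a => (TensorProduct.mk A (Localization.Away a.1) M 1)) fun a => pc_finite (h a)
    obtain ⟨r, g, hg⟩ := Module.Finite.exists_fin' A M
    refine pc_succ_iff.2 ⟨r, g, hg, pc_of_span s hs k _ fun a => ?_⟩
    obtain ⟨e⟩ := kerBaseChange (B := Localization.Away a.1) g
    exact pc_congr e.symm (pc_ker (LinearMap.exact_subtype_ker_map _)
      (LinearMap.lTensor_surjective (Localization.Away a.1) hg : Surjective (g.baseChange (Localization.Away a.1)))
      (Submodule.injective_subtype _) (pc_free k) (h a))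

end Local

end Groth.Agent.FlatMorPerfect
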