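import Groth.Agent.CAlgH.RelativeTorDim
import Mathlib.RingTheory.Flat.FaithfullyFlat.Algebra
import Mathlib.LinearAlgebra.TensorProduct.Tower

/-!
# Tor dimension through syzygies: short exact sequences, composition, descent

`TD R n M` says that `Tor₁(L, M) = 0` for all `n`-th syzygies `L`.
-/

universe u

set_option autoImplicit false
set_option backward.isDefEq.respectTransparency false

open TensorProduct Function

namespace Groth.Agent.FlatMorPerfect

open EGA43.PdFlat CAlgH.FlatDimension

section

variable (R : Type u) [CommRing R]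

/-- Tor dimension `≤ n`. -/
def TD (n : ℕ) (M : Type u) [AddCommGroup M] [Module R M] : Prop :=
  ∀ (L : Type u) [AddCommGroup L] [Module R L], Syz (R := R) n L → FlatCrit.TorVanish R L M

variable {R}
variable {M : Type u} [AddCommGroup M] [Module R M]

theorem syz_of_succ : ∀ (n : ℕ) (L : Type u) [AddCommGroup L] [Module R L],
    Syz (R := R) (n + 1) L → Syz (R := R) n L
  | 0, _, _, _, _ => trivial
  | n + 1, L, _, _, h => by
    obtain ⟨L', P, _, _, _, _, _, i, p, hip, hp, hi, hL'⟩ := h
    exact ⟨L', P, inferInstance, inferInstance, inferInstance, inferInstance, inferInstance, i, p,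
      hip, hp, hi, syz_of_succ n L' hL'⟩

theorem TD.succ {n : ℕ} (h : TD R n M) : TD R (n + 1) M := fun L _ _ hL => h L (syz_of_succ n L hL)

theorem TD.mono {m n : ℕ} (hmn : m ≤ n) (h : TD R m M) : TD R n M := by
  induction n, hmn using Nat.le_induction with
  | base => exact h
  | succ n _ ih => exact ih.succ

theorem td_of_flat [Module.Flat R M] (n : ℕ) : TD R n M := fun _ _ _ _ => Tor15.torVanish_of_flat

theorem td_of_flatDimLE {n : ℕ} (h : FlatDimLE R n M) : TD R n M :=
  fun L _ _ hL => CAlgH.RelativeTorDim.torVanish_of_flatDimLE n h L hL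

theorem TD.flatDimLE {n : ℕ} (h : TD R n M) : FlatDimLE R n M := by
  have key : ∀ (j i : ℕ) (N : Type u) [AddCommGroup N] [Module R N], i + j = n →
      Syz (R := R) i N → Tor15.Dim (R := R) j M N := by
    intro j
    induction j with
    | zero => intro i N _ _ hi hN; obtain rfl : i = n := hi; exact h N hN
    | succ j ih =>
      intro i N _ _ hi hN
      let g : (N →₀ R) →ₗ[R] N := Finsupp.linearCombination R id
      have hg : Surjective g := fun m => ⟨Finsupp.single m 1, by simp [g]⟩
      have hex := LinearMap.exact_subtype_ker_map g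
      have hsyz : Syz (R := R) (i + 1) (LinearMap.ker g) :=
        ⟨N, N →₀ R, inferInstance, inferInstance, inferInstance, inferInstance, inferInstance,
          (LinearMap.ker g).subtype, g, hex, hg, (LinearMap.ker g).injective_subtype, hN⟩
      have hd : Tor15.Dim (R := R) j M (LinearMap.ker g) := ih (i + 1) _ (by omega) hsyz
      exact ⟨LinearMap.ker g, N →₀ R, inferInstance, inferInstance, inferInstance, inferInstance,
        inferInstance, (LinearMap.ker g).subtype, g, hex, hg, (LinearMap.ker g).injective_subtype, hd⟩
  exact flatDimLE_of_forall_dim n M fun N _ _ => key n 0 N (by omega) trivial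

theorem td_congr {n : ℕ} {N : Type u} [AddCommGroup N] [Module R N] (e : M ≃ₗ[R] N) (h : TD R n M) :
    TD R n N :=
  td_of_flatDimLE (h.flatDimLE.congr e)

theorem hasFiniteTorDim_iff : DRing.HasFiniteTorDim R M ↔ ∃ n, TD R n M :=
  ⟨fun ⟨n, h⟩ => ⟨n + 1, td_of_flatDimLE (flatDimLE_of_hasTorDimLE h)⟩,
   fun ⟨n, h⟩ => ⟨n, CAlgH.RelativeTorDim.hasTorDimLE_of_flatDimLE h.flatDimLE⟩⟩

/-- The kernel of a flat cover loses one dimension. -/
theorem TD.ker {n : ℕ} (h : TD R (n + 1) M) {K F : Type u} [AddCommGroup K] [Module R K]
    [AddCommGroup F] [Module R F] [Module.Flat R F] {j : K →ₗ[R] F} {q : F →ₗ[R] M}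
    (hjq : Exact j q) (hq : Surjective q) (hj : Injective j) : TD R n K := by
  intro X _ _ hX
  let g : (X →₀ R) →ₗ[R] X := Finsupp.linearCombination R id
  have hg : Surjective g := fun m => ⟨Finsupp.single m 1, by simp [g]⟩
  refine Tor15.torVanish_symm (Tor15.torVanish_shift hjq hq hj (LinearMap.exact_subtype_ker_map g) hg
    (Submodule.injective_subtype _) (h _ ?_))
  exact ⟨X, _, inferInstance, inferInstance, inferInstance, inferInstance, inferInstance,
    (LinearMap.ker g).subtype, g, LinearMap.exact_subtype_ker_map g, hg, Submodule.injective_subtype _, hX⟩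

/-- Cokernels gain one dimension. -/
theorem td_coker {n : ℕ} {L P : Type u} [AddCommGroup L] [Module R L] [AddCommGroup P] [Module R P]
    {f : L →ₗ[R] P} {g : P →ₗ[R] M} (hfg : Exact f g) (hg : Surjective g) (hf : Injective f)
    (hL : TD R n L) (hP : TD R (n + 1) P) : TD R (n + 1) M := by
  intro X _ _ hX
  obtain ⟨X₁, G, _, _, _, _, _, i, p, hip, hp, hi, hX₁⟩ := id hX
  refine FlatCrit.TorVanish.of_presentation f g hfg hg (hP X hX) ?_
  rw [← LinearMap.lTensor_inj_iff_rTensor_inj]
  -- `X ⊗ L → G ⊗ L → G ⊗ P` is injective
  have h1 : Injective (i.rTensor L) := Tor15.torVanish_symm (hL X₁ hX₁) i p hip hp hi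
  have h2 : Injective (f.lTensor G) := Module.Flat.lTensor_preserves_injective_linearMap f hf
  have h3 := h2.comp h1
  rw [← LinearMap.coe_comp, LinearMap.lTensor_comp_rTensor, ← LinearMap.rTensor_comp_lTensor,
    LinearMap.coe_comp] at h3
  exact h3.of_comp

end

section Algebra

variable {A B : Type u} [CommRing A] [CommRing B] [Algebra A B]

/-- A flat `B`-module has the tor dimension of `B`. -/
theorem td_flat_module {n : ℕ} (hB : TD A n B) (P : Type u) [AddCommGroup P] [Module A P] [Module B P]
    [IsScalarTower A B P] [Module.Flat B P] : TD A n P := by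
  intro X _ _ hX
  refine Tor15.torVanish_symm fun K F _ _ _ _ i p hip hp hi => ?_
  have h1 : Injective (i.baseChange B) := (LinearMap.lTensor_inj_iff_rTensor_inj B i).2
    (Tor15.torVanish_symm (hB X hX) i p hip hp hi)
  have h2 : Injective ((i.baseChange B).lTensor P) := Module.Flat.lTensor_preserves_injective_linearMap _ h1
  rw [← LinearMap.lTensor_inj_iff_rTensor_inj]
  let eK := AlgebraTensorModule.cancelBaseChange A B B P K
  let eF := AlgebraTensorModule.cancelBaseChange A B B P F
  have hc : ∀ z, i.lTensor P (eK z) = eF ((i.baseChange B).lTensor P z) := by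
    intro z
    induction z using TensorProduct.induction_on with
    | zero => simp
    | add a b ha hb => simp only [map_add, ha, hb]
    | tmul q w =>
      induction w using TensorProduct.induction_on with
      | zero => simp
      | add a b ha hb => simp only [tmul_add, map_add, ha, hb]
      | tmul b k => simp [eK, eF]
  intro x y hxy
  obtain ⟨x, rfl⟩ := eK.surjective x
  obtain ⟨y, rfl⟩ := eK.surjective y
  rw [hc, hc] at hxy
  rw [h2 (eF.injective hxy)]

/-- Composition of tor dimensions. -/
theorem td_comp {a : ℕ} (hB : TD A a B) : ∀ (b : ℕ) (M : Type u) [AddCommGroup M] [Module B M] [Module A M]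
    [IsScalarTower A B M], TD B b M → TD A (a + b) M
  | 0, M, _, _, _, _, h =>
    haveI : Module.Flat B M := h.flatDimLE
    td_flat_module hB M
  | b + 1, M, _, _, _, _, h => by
    let g : (M →₀ B) →ₗ[B] M := Finsupp.linearCombination B id
    have hg : Surjective g := fun m => ⟨Finsupp.single m 1, by simp [g]⟩
    have hK : TD B b (LinearMap.ker g) :=
      h.ker (LinearMap.exact_subtype_ker_map g) hg (Submodule.injective_subtype _)
    exact td_coker (f := (LinearMap.ker g).subtype.restrictScalars A) (g := g.restrictScalars A)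
      (LinearMap.exact_subtype_ker_map g) hg (Submodule.injective_subtype _) (td_comp hB b _ hK)
      ((td_flat_module hB (M →₀ B)).mono (Nat.le_add_right a (b + 1)))

/-- Descent along a faithfully flat map of algebras. -/
theorem td_of_faithfullyFlat {n : ℕ} (B' : Type u) [CommRing B'] [Algebra A B'] [Algebra B B']
    [IsScalarTower A B B'] [Module.FaithfullyFlat B B'] (h : TD A n B') : TD A n B := by
  intro X _ _ hX
  refine Tor15.torVanish_symm fun K F _ _ _ _ i p hip hp hi => ?_
  have h1 : Injective (i.lTensor B') := (LinearMap.lTensor_inj_iff_rTensor_inj B' i).2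
    (Tor15.torVanish_symm (h X hX) i p hip hp hi)
  rw [← LinearMap.lTensor_inj_iff_rTensor_inj]
  let u := (IsScalarTower.toAlgHom A B B').toLinearMap
  have hu : Injective (u.rTensor K) := by
    let e := AlgebraTensorModule.cancelBaseChange A B B B' K
    have hue : ∀ z, u.rTensor K z = e ((1 : B') ⊗ₜ[B] z) := by
      intro z
      induction z using TensorProduct.induction_on with
      | zero => simp
      | add a b ha hb => simp only [tmul_add, map_add, ha, hb]
      | tmul b k => simp [u, e, Algebra.smul_def]
    intro x y hxy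
    rw [hue, hue] at hxy
    exact Module.FaithfullyFlat.tensorProduct_mk_injective (A := B) (B := B') (B ⊗[A] K) (e.injective hxy)
  have h3 := h1.comp hu
  rw [← LinearMap.coe_comp, LinearMap.lTensor_comp_rTensor, ← LinearMap.rTensor_comp_lTensor,
    LinearMap.coe_comp] at h3
  exact h3.of_comp

/-- Flat base change. -/
theorem TD.baseChange {n : ℕ} (A' : Type u) [CommRing A'] [Algebra A A'] [Module.Flat A A']
    {M : Type u} [AddCommGroup M] [Module A M] (h : TD A n M) : TD A' n (A' ⊗[A] M) :=
  td_of_flatDimLE h.flatDimLE.baseChange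

end Algebra

end Groth.Agent.FlatMorPerfect
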