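import Groth.Agent.FlatMorPerfect.Local
import Mathlib.AlgebraicGeometry.Morphisms.Descent
import Mathlib.AlgebraicGeometry.Morphisms.Flat
import Mathlib.AlgebraicGeometry.Morphisms.Smooth

/-!
# Pseudo-coherent and perfect morphisms: composition, flat base change, descent
-/

universe u

set_option autoImplicit false
set_option backward.isDefEq.respectTransparency false
set_option linter.style.haveILetI false

open AlgebraicGeometry CategoryTheory CategoryTheory.Limits TensorProduct

attribute [local instance] HasDerivedCategory.standard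

namespace Groth.Agent.FlatMorPerfect

instance : HasRingHomProperty @MoreMor.IsPseudoCoherentMor @RingPC where
  isLocal_ringHomProperty := ringPC_isLocal
  eq_affineLocally' := by
    ext X Y f
    rw [affineLocally_iff_affineOpens_le]
    exact ⟨fun h V U e => h U V U.2 V.2 e, fun h U V hU hV e => h ⟨V, hV⟩ ⟨U, hU⟩ e⟩

instance : HasRingHomProperty @MoreMor.IsPerfectMor @RingPerf where
  isLocal_ringHomProperty := ringPerf_isLocal
  eq_affineLocally' := by
    ext X Y f
    rw [affineLocally_iff_affineOpens_le]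
    exact ⟨fun h V U e => h U V U.2 V.2 e, fun h U V hU hV e => h ⟨V, hV⟩ ⟨U, hU⟩ e⟩

section General

variable (P : MorphismProperty Scheme.{u})
  {Q : ∀ {R S : Type u} [CommRing R] [CommRing S], (R →+* S) → Prop} [HasRingHomProperty P Q]
  (hbc : ∀ {R S R' S' : Type u} [CommRing R] [CommRing S] [CommRing R'] [CommRing S']
    [Algebra R S] [Algebra R R'] [Algebra R S'] [Algebra S S'] [Algebra R' S'] [IsScalarTower R S S']
    [IsScalarTower R R' S'] [Algebra.IsPushout R R' S S'] [Module.Flat R R'],
    Q (algebraMap R S) → Q (algebraMap R' S'))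

include hbc in
theorem flat_baseChange_affine {A A' : CommRingCat.{u}} {X : Scheme.{u}} (f : X ⟶ Spec A)
    (ψ : A ⟶ A') (hψ : ψ.hom.Flat) (hf : P f) : P (pullback.snd f (Spec.map ψ)) := by
  wlog hX : ∃ B, X = Spec B generalizing X
  · rw [IsZariskiLocalAtSource.iff_of_openCover (P := P)
      (Scheme.Pullback.openCoverOfLeft X.affineCover f (Spec.map ψ))]
    intro i
    have := this (X.affineCover.f i ≫ f) (IsZariskiLocalAtSource.comp hf _) ⟨_, rfl⟩
    simpa using this
  obtain ⟨B, rfl⟩ := hX
  obtain ⟨φ, rfl⟩ := Spec.map_surjective f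
  algebraize [φ.hom, ψ.hom]
  rw [HasRingHomProperty.Spec_iff (P := P)] at hf
  show P (pullback.snd (Spec.map (CommRingCat.ofHom (algebraMap A B)))
    (Spec.map (CommRingCat.ofHom (algebraMap A A'))))
  rw [← pullbackSpecIso_hom_snd A B A', P.cancel_left_of_respectsIso, HasRingHomProperty.Spec_iff (P := P)]
  letI : Algebra A' ((B : Type u) ⊗[(A : Type u)] (A' : Type u)) := Algebra.TensorProduct.rightAlgebra
  exact hbc (R := A) (S := B) (R' := A') (S' := (B : Type u) ⊗[(A : Type u)] (A' : Type u)) hf

include hbc in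
/-- Stability under flat base change. -/
theorem flat_baseChange {X S X' S' : Scheme.{u}} {f : X ⟶ S} {f' : X' ⟶ S'} {g' : X' ⟶ X} {g : S' ⟶ S}
    [Flat g] (hc : IsPullback g' f' f g) (hf : P f) : P f' := by
  suffices P (pullback.snd f g) by
    rw [← hc.isoPullback_hom_snd, P.cancel_left_of_respectsIso]; exact this
  clear hc g' f' X'
  wlog hS : ∃ A, S = Spec A generalizing X S S'
  · rw [IsZariskiLocalAtTarget.iff_of_openCover (P := P) (S.affineCover.pullback₁ g)]
    intro i
    let v := S.affineCover.f i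
    have h1 := this (f := pullback.snd f v) (g := pullback.snd g v)
      (IsZariskiLocalAtTarget.of_isPullback (IsPullback.of_hasPullback f v) hf) ⟨_, rfl⟩
    have h2 : IsPullback (pullback.fst (pullback.snd f g) (pullback.fst g v) ≫ pullback.fst f g)
        (pullback.snd (pullback.snd f g) (pullback.fst g v)) f (pullback.snd g v ≫ v) :=
      pullback.condition (f := g) (g := v) ▸ (IsPullback.of_hasPullback _ _).paste_horiz (IsPullback.of_hasPullback f g)
    have h3 := h2.of_right' (IsPullback.of_hasPullback f v)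
    show P (pullback.snd (pullback.snd f g) (pullback.fst g v))
    rw [← h3.isoPullback_hom_snd, P.cancel_left_of_respectsIso]
    exact h1
  obtain ⟨A, rfl⟩ := hS
  rw [IsZariskiLocalAtTarget.iff_of_openCover (P := P) S'.affineCover]
  intro j
  obtain ⟨ψ, hψ⟩ := Spec.map_surjective (S'.affineCover.f j ≫ g)
  have hψflat : ψ.hom.Flat := by
    have : Flat (Spec.map ψ) := by rw [hψ]; infer_instance
    exact (HasRingHomProperty.Spec_iff (P := @Flat)).1 this
  have h1 := flat_baseChange_affine P hbc f ψ hψflat hf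
  rw [hψ] at h1
  have h2 := (IsPullback.of_hasPullback (pullback.snd f g) (S'.affineCover.f j)).paste_horiz
    (IsPullback.of_hasPullback f g)
  show P (pullback.snd (pullback.snd f g) (S'.affineCover.f j))
  rw [← h2.isoPullback_hom_snd, P.cancel_left_of_respectsIso]
  exact h1

include hbc in
/-- Descent along faithfully flat quasi-compact morphisms. -/
theorem flat_descent (hQ : RingHom.CodescendsAlong Q RingHom.FaithfullyFlat)
    {X S X' S' : Scheme.{u}} {f : X ⟶ S} {f' : X' ⟶ S'} {g' : X' ⟶ X} {g : S' ⟶ S}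
    [Flat g] [Surjective g] [QuasiCompact g] (hc : IsPullback g' f' f g) (hf : P f') : P f := by
  replace hf : P (pullback.snd f g) := by
    rw [← hc.isoPullback_hom_snd, P.cancel_left_of_respectsIso] at hf; exact hf
  clear hc g' f' X'
  wlog hS : ∃ A, S = Spec A generalizing X S S'
  · rw [IsZariskiLocalAtTarget.iff_of_openCover (P := P) S.affineCover]
    intro i
    let v := S.affineCover.f i
    refine this (f := pullback.snd f v) (g := pullback.snd g v) ?_ ⟨_, rfl⟩
    have h1 := flat_baseChange P hbc (IsPullback.of_hasPullback (pullback.snd f g) (pullback.fst g v)) hf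
    have h2 : IsPullback (pullback.fst (pullback.snd f g) (pullback.fst g v) ≫ pullback.fst f g)
        (pullback.snd (pullback.snd f g) (pullback.fst g v)) f (pullback.snd g v ≫ v) :=
      pullback.condition (f := g) (g := v) ▸ (IsPullback.of_hasPullback _ _).paste_horiz (IsPullback.of_hasPullback f g)
    have h3 := h2.of_right' (IsPullback.of_hasPullback f v)
    rw [← h3.isoPullback_hom_snd, P.cancel_left_of_respectsIso] at h1
    exact h1
  obtain ⟨A, rfl⟩ := hS
  wlog hX : ∃ B, X = Spec B generalizing X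
  · rw [IsZariskiLocalAtSource.iff_of_openCover (P := P) X.affineCover]
    intro i
    refine this (f := X.affineCover.f i ≫ f) ?_ ⟨_, rfl⟩
    have heq : pullback.snd (X.affineCover.f i ≫ f) g =
        pullback.map _ _ _ _ (X.affineCover.f i) (𝟙 _) (𝟙 _) (by simp) (by simp) ≫ pullback.snd f g := by
      simp
    rw [heq]
    exact IsZariskiLocalAtSource.comp hf _
  obtain ⟨B, rfl⟩ := hX
  have : CompactSpace S' := QuasiCompact.compactSpace_of_compactSpace g
  obtain ⟨Y, p, hsurj, hp, hY⟩ := S'.exists_hom_isAffine_of_isZariskiLocalAtSource @IsLocalIso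
  have : Flat p := IsLocalIso.le_of_isZariskiLocalAtSource @Flat _ _ p hp
  obtain ⟨ψ, hψ⟩ := Spec.map_surjective ((Y.isoSpec.inv ≫ p) ≫ g)
  have h1 := flat_baseChange P hbc (IsPullback.of_hasPullback (pullback.snd f g) (Y.isoSpec.inv ≫ p)) hf
  have h2 := (IsPullback.of_hasPullback (pullback.snd f g) (Y.isoSpec.inv ≫ p)).paste_horiz
    (IsPullback.of_hasPullback f g)
  rw [← h2.isoPullback_hom_snd, P.cancel_left_of_respectsIso, ← hψ, ← pullbackSymmetry_hom_comp_fst,
    P.cancel_left_of_respectsIso] at h1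
  exact of_pullback_fst_Spec_of_codescendsAlong P (@Surjective ⊓ @Flat) hQ
    (fun {R S φ} h => by
      rw [RingHom.FaithfullyFlat.iff_flat_and_comap_surjective]
      exact ⟨(HasRingHomProperty.Spec_iff (P := @Flat)).1 h.2, h.1.surj⟩)
    (fun {R S φ} => HasRingHomProperty.Spec_iff (P := P))
    (show (@Surjective ⊓ @Flat : MorphismProperty Scheme.{u}) (Spec.map ψ) from
      ⟨by rw [hψ]; infer_instance, by rw [hψ]; infer_instance⟩) h1

end General

section PC

variable {X Y Z : Scheme.{u}}

theorem pcMor_comp (f : X ⟶ Y) (g : Y ⟶ Z) (hf : MoreMor.IsPseudoCoherentMor f)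
    (hg : MoreMor.IsPseudoCoherentMor g) : MoreMor.IsPseudoCoherentMor (f ≫ g) := by
  have := HasRingHomProperty.stableUnderComposition (P := @MoreMor.IsPseudoCoherentMor) ringPC_stableUnderComposition
  exact MorphismProperty.comp_mem @MoreMor.IsPseudoCoherentMor f g hf hg

theorem perfectMor_comp (f : X ⟶ Y) (g : Y ⟶ Z) (hf : MoreMor.IsPerfectMor f)
    (hg : MoreMor.IsPerfectMor g) : MoreMor.IsPerfectMor (f ≫ g) := by
  have := HasRingHomProperty.stableUnderComposition (P := @MoreMor.IsPerfectMor) ringPerf_stableUnderComposition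
  exact MorphismProperty.comp_mem @MoreMor.IsPerfectMor f g hf hg

variable {S X' S' : Scheme.{u}} {f : X ⟶ S} {f' : X' ⟶ S'} {g' : X' ⟶ X} {g : S' ⟶ S} [Flat g]

theorem pcMor_baseChange (hc : IsPullback g' f' f g) (hf : MoreMor.IsPseudoCoherentMor f) :
    MoreMor.IsPseudoCoherentMor f' :=
  flat_baseChange @MoreMor.IsPseudoCoherentMor (fun {_ _ _ _} _ _ _ _ _ _ _ _ _ _ _ _ _ h => ringPC_baseChange h) hc hf

theorem perfectMor_baseChange (hc : IsPullback g' f' f g) (hf : MoreMor.IsPerfectMor f) :
    MoreMor.IsPerfectMor f' :=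
  flat_baseChange @MoreMor.IsPerfectMor (fun {_ _ _ _} _ _ _ _ _ _ _ _ _ _ _ _ _ h => ringPerf_baseChange h) hc hf

theorem pcMor_descent [Surjective g] [QuasiCompact g] (hc : IsPullback g' f' f g)
    (hf : MoreMor.IsPseudoCoherentMor f') : MoreMor.IsPseudoCoherentMor f :=
  flat_descent @MoreMor.IsPseudoCoherentMor (fun {_ _ _ _} _ _ _ _ _ _ _ _ _ _ _ _ _ h => ringPC_baseChange h)
    ringPC_codescendsAlong hc hf

theorem perfectMor_descent [Surjective g] [QuasiCompact g] (hc : IsPullback g' f' f g)
    (hf : MoreMor.IsPerfectMor f') : MoreMor.IsPerfectMor f :=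
  flat_descent @MoreMor.IsPerfectMor (fun {_ _ _ _} _ _ _ _ _ _ _ _ _ _ _ _ _ h => ringPerf_baseChange h)
    ringPerf_codescendsAlong hc hf

/-- Flat morphisms locally of finite presentation are perfect. -/
theorem perfectMor_of_flat {U V : Scheme.{u}} (j : U ⟶ V) [Flat j] [LocallyOfFinitePresentation j] :
    MoreMor.IsPerfectMor j := fun U₁ V₁ hU hV hUV =>
  ringPerf_of_flat _ (HasRingHomProperty.appLE @Flat j inferInstance ⟨V₁, hV⟩ ⟨U₁, hU⟩ hUV)
    (HasRingHomProperty.appLE @LocallyOfFinitePresentation j inferInstance ⟨V₁, hV⟩ ⟨U₁, hU⟩ hUV)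

end PC

end Groth.Agent.FlatMorPerfect
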