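import Groth.Agent.FlatMorPerfect.PC
import Groth.Agent.FlatCx12.PerfectHom
import Mathlib.RingTheory.Localization.Away.AdjoinRoot
import Mathlib.RingTheory.RingHom.FiniteType
import Mathlib.RingTheory.TensorProduct.MvPolynomial

/-!
# Pseudo-coherent ring maps: independence of the presentation, composition, base change, locality
-/

universe u

set_option autoImplicit false
set_option backward.isDefEq.respectTransparency false
set_option linter.style.haveILetI false

open TensorProduct Function MvPolynomial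

attribute [local instance] HasDerivedCategory.standard
attribute [local instance] MvPolynomial.algebraMvPolynomial

namespace Groth.Agent.FlatMorPerfect

section PCS

/-- The target is a pseudo-coherent module over the source. -/
def PCS {R S : Type u} [CommRing R] [CommRing S] (φ : R →+* S) : Prop :=
  ∀ k, letI := φ.toAlgebra; PC R k S

variable {R S T : Type u} [CommRing R] [CommRing S] [CommRing T]

theorem pcs_iff [Algebra R S] {φ : R →+* S} (h : algebraMap R S = φ) : PCS φ ↔ ∀ k, PC R k S := by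
  subst h
  let e : @LinearEquiv R R _ _ (RingHom.id R) (RingHom.id R) _ _ S S _ _
      ((algebraMap R S).toAlgebra.toModule) Algebra.toModule :=
    @LinearEquiv.mk R R _ _ (RingHom.id R) (RingHom.id R) _ _ S S _ _
      ((algebraMap R S).toAlgebra.toModule) Algebra.toModule
      (@LinearMap.mk R R _ _ (RingHom.id R) S S _ _ ((algebraMap R S).toAlgebra.toModule) Algebra.toModule
        (AddHom.id S) fun r x => (Algebra.smul_def r x).symm) id (fun _ => rfl) (fun _ => rfl)
  exact forall_congr' fun k => ⟨fun h => @pc_congr R _ S S _ (algebraMap R S).toAlgebra.toModule _ _ k e h,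
    fun h => @pc_congr R _ S S _ _ _ (algebraMap R S).toAlgebra.toModule k e.symm h⟩

theorem PCS.comp_iff {φ : R →+* S} (hφ : PCS φ) (ψ : S →+* T) : PCS (ψ.comp φ) ↔ PCS ψ := by
  letI := φ.toAlgebra
  letI := ψ.toAlgebra
  letI := (ψ.comp φ).toAlgebra
  haveI : IsScalarTower R S T := .of_algebraMap_eq fun _ => rfl
  exact forall_congr' fun k => (pc_iff_of_algebra hφ k T).symm

theorem PCS.comp {φ : R →+* S} (hφ : PCS φ) {ψ : S →+* T} (hψ : PCS ψ) : PCS (ψ.comp φ) :=
  (hφ.comp_iff ψ).2 hψ

theorem pcs_equiv (e : R ≃+* S) : PCS e.toRingHom := by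
  letI := e.toRingHom.toAlgebra
  exact fun k => pc_congr (LinearEquiv.ofBijective (Algebra.linearMap R S) e.bijective) (pc_free k)

theorem pcs_id : PCS (RingHom.id R) := pcs_equiv (RingEquiv.refl R)

/-- A quotient by a regular element. -/
theorem pcs_of_ker {φ : R →+* S} (hφ : Surjective φ) (a : R) (ha : IsLeftRegular a)
    (hker : RingHom.ker φ = Ideal.span {a}) : PCS φ := by
  letI := φ.toAlgebra
  have hex : Exact (LinearMap.mulLeft R a) (Algebra.linearMap R S) := fun x => by
    show φ x = 0 ↔ _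
    rw [← RingHom.mem_ker, hker, Ideal.mem_span_singleton]
    exact ⟨fun ⟨c, hc⟩ => ⟨c, hc.symm⟩, fun ⟨c, hc⟩ => ⟨c, hc.symm⟩⟩
  intro k
  exact pc_pred (pc_coker hex hφ (fun _ _ h => ha h) (pc_free k) (pc_free (k + 1)))

theorem pcs_polyEval (c : R) : PCS (Polynomial.evalRingHom c) :=
  pcs_of_ker (fun r => ⟨Polynomial.C r, Polynomial.eval_C⟩) (Polynomial.X - Polynomial.C c)
    (Polynomial.monic_X_sub_C c).isRegular.left (Polynomial.ker_evalRingHom c)

theorem pcs_eval : ∀ {m : ℕ} (g : Fin m → R), PCS (MvPolynomial.eval g)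
  | 0, g => by
    have h : MvPolynomial.eval g = (isEmptyRingEquiv R (Fin 0)).toRingHom :=
      ringHom_ext (fun r => by rw [eval_C]; simp only [RingEquiv.toRingHom_eq_coe, RingEquiv.coe_toRingHom, isEmptyRingEquiv]; exact (MvPolynomial.coeff_zero_C r).symm) (fun i => i.elim0)
    rw [h]
    exact pcs_equiv _
  | m + 1, g => by
    have h : MvPolynomial.eval g = (MvPolynomial.eval fun j => g j.succ).comp
        ((Polynomial.evalRingHom (C (g 0))).comp (finSuccEquiv R m).toRingEquiv.toRingHom) := by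
      refine ringHom_ext (fun r => by simp [finSuccEquiv_apply]) fun i => ?_
      refine Fin.cases ?_ (fun j => ?_) i
      · simp [finSuccEquiv_X_zero]
      · simp [finSuccEquiv_X_succ]
    rw [h]
    exact ((pcs_equiv _).comp (pcs_polyEval _)).comp (pcs_eval _)

/-- Adding variables to a surjective presentation. -/
theorem pcs_eval₂_iff {m : ℕ} {φ : R →+* S} (hφ : Surjective φ) (g : Fin m → S) :
    PCS (eval₂Hom φ g) ↔ PCS φ := by
  choose g' hg' using fun i => hφ (g i)
  have h : eval₂Hom φ g = φ.comp (MvPolynomial.eval g') :=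
    ringHom_ext (fun r => by simp) fun i => by simp [hg']
  rw [h, (pcs_eval g').comp_iff φ]

end PCS

section Hom

variable {A B C : Type u} [CommRing A] [CommRing B] [CommRing C] [Algebra A B]

/-- Exchanging two groups of variables. -/
noncomputable def swapEquiv (n m : ℕ) (A : Type u) [CommRing A] :
    MvPolynomial (Fin m) (MvPolynomial (Fin n) A) ≃+* MvPolynomial (Fin n) (MvPolynomial (Fin m) A) :=
  RingEquiv.ofRingHom (eval₂Hom (MvPolynomial.map MvPolynomial.C) fun i => MvPolynomial.C (MvPolynomial.X i))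
    (eval₂Hom (MvPolynomial.map MvPolynomial.C) fun i => MvPolynomial.C (MvPolynomial.X i))
    (ringHom_ext (fun p => by
      induction p using MvPolynomial.induction_on with
      | C a => simp
      | add p q hp hq => simp_all
      | mul_X p i hp => simp_all) fun i => by simp)
    (ringHom_ext (fun p => by
      induction p using MvPolynomial.induction_on with
      | C a => simp
      | add p q hp hq => simp_all
      | mul_X p i hp => simp_all) fun i => by simp)

theorem pcs_presentation {n m : ℕ} (φ : MvPolynomial (Fin n) A →ₐ[A] B) (hφ : Surjective φ)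
    (ψ : MvPolynomial (Fin m) A →ₐ[A] B) (hψ : Surjective ψ) (h : PCS φ.toRingHom) : PCS ψ.toRingHom := by
  let g : Fin m → B := fun i => ψ (MvPolynomial.X i)
  let g' : Fin n → B := fun i => φ (MvPolynomial.X i)
  have e : eval₂Hom φ.toRingHom g = (eval₂Hom ψ.toRingHom g').comp (swapEquiv n m A).toRingHom := by
    refine ringHom_ext (fun p => ?_) fun i => ?_
    · induction p using MvPolynomial.induction_on with
      | C a => simp [swapEquiv, ← MvPolynomial.algebraMap_eq]
      | add p q hp hq => simp_all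
      | mul_X p i hp => simp_all [swapEquiv, g']
    · simp [swapEquiv, g]
  have h1 := (pcs_eval₂_iff hφ g).2 h
  rw [e, (pcs_equiv _).comp_iff] at h1
  exact (pcs_eval₂_iff hψ g').1 h1

theorem pcHom_iff : MoreMor.IsPseudoCoherentHom A B ↔
    ∃ (n : ℕ) (φ : MvPolynomial (Fin n) A →ₐ[A] B), Surjective φ ∧ PCS φ.toRingHom := by
  simp only [MoreMor.IsPseudoCoherentHom, pc'_iff_forall]
  exact Iff.rfl

theorem pcHom_pcs (h : MoreMor.IsPseudoCoherentHom A B) {n : ℕ} (φ : MvPolynomial (Fin n) A →ₐ[A] B)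
    (hφ : Surjective φ) : PCS φ.toRingHom := by
  obtain ⟨m, ψ, hψ, hp⟩ := pcHom_iff.1 h
  exact pcs_presentation ψ hψ φ hφ hp

theorem pcHom_finiteType (h : MoreMor.IsPseudoCoherentHom A B) : Algebra.FiniteType A B := by
  obtain ⟨n, φ, hφ, -⟩ := pcHom_iff.1 h
  exact .of_surjective φ hφ

/-- Presentations in two groups of variables. -/
theorem pcHom_iff_two {n m : ℕ} (γ : MvPolynomial (Fin m) (MvPolynomial (Fin n) A) →ₐ[A] B)
    (hγ : Surjective γ) : MoreMor.IsPseudoCoherentHom A B ↔ PCS γ.toRingHom := by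
  let e : MvPolynomial (Fin m) (MvPolynomial (Fin n) A) ≃ₐ[A] MvPolynomial (Fin (m + n)) A :=
    (sumAlgEquiv A (Fin m) (Fin n)).symm.trans (renameEquiv A finSumFinEquiv)
  have hs : Surjective (γ.comp e.symm.toAlgHom) := hγ.comp e.symm.surjective
  have he : (γ.comp e.symm.toAlgHom).toRingHom = γ.toRingHom.comp e.symm.toRingEquiv.toRingHom := rfl
  constructor
  · intro h
    have := pcHom_pcs h _ hs
    rwa [he, (pcs_equiv _).comp_iff] at this
  · intro h
    refine pcHom_iff.2 ⟨m + n, _, hs, ?_⟩
    rw [he, (pcs_equiv _).comp_iff]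
    exact h

theorem pcs_map {R S : Type u} [CommRing R] [CommRing S] {φ : R →+* S} (h : PCS φ) (σ : Type) [Finite σ] :
    PCS (MvPolynomial.map (σ := σ) φ) := by
  letI := φ.toAlgebra
  rw [pcs_iff (show algebraMap (MvPolynomial σ R) (MvPolynomial σ S) = MvPolynomial.map φ from rfl)]
  intro k
  exact pc_congr (Algebra.IsPushout.equiv R (MvPolynomial σ R) S (MvPolynomial σ S)).toLinearEquiv
    (pc_baseChange k S (h k))

/-- Composition. -/
theorem pcHom_comp [Algebra B C] [Algebra A C] [IsScalarTower A B C]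
    (hAB : MoreMor.IsPseudoCoherentHom A B) (hBC : MoreMor.IsPseudoCoherentHom B C) :
    MoreMor.IsPseudoCoherentHom A C := by
  obtain ⟨n, φ, hφ, h1⟩ := pcHom_iff.1 hAB
  obtain ⟨m, ψ, hψ, h2⟩ := pcHom_iff.1 hBC
  let γ : MvPolynomial (Fin m) (MvPolynomial (Fin n) A) →ₐ[A] C :=
    { toRingHom := ψ.toRingHom.comp (MvPolynomial.map φ.toRingHom)
      commutes' := fun a => by
        show ψ (MvPolynomial.map φ.toRingHom (algebraMap A _ a)) = algebraMap A C a
        rw [IsScalarTower.algebraMap_apply A (MvPolynomial (Fin n) A), MvPolynomial.algebraMap_eq, map_C,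
          IsScalarTower.algebraMap_apply A B C, show φ.toRingHom (algebraMap A _ a) = algebraMap A B a from
            φ.commutes a, ← MvPolynomial.algebraMap_eq, ψ.commutes] }
  exact (pcHom_iff_two γ (hψ.comp (MvPolynomial.map_surjective _ hφ))).2 ((pcs_map h1 (Fin m)).comp h2)

theorem exists_pushout_equiv (R S R' S' : Type u) [CommRing R] [CommRing S] [CommRing R'] [CommRing S']
    [Algebra R S] [Algebra R R'] [Algebra S S'] [Algebra R' S'] [Algebra R S'] [IsScalarTower R S S']
    [IsScalarTower R R' S'] (h : Algebra.IsPushout R S R' S') :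
    ∃ e : S ⊗[R] R' ≃ₗ[S] S', ∀ (x : S) (y : R'), e (x ⊗ₜ y) = algebraMap S S' x * algebraMap R' S' y :=
  ⟨(Algebra.IsPushout.equiv R S R' S' (h := h)).toLinearEquiv, fun x y => (h.out.equiv_tmul x y).trans (Algebra.smul_def _ _)⟩

variable (A' B' : Type u) [CommRing A'] [CommRing B'] [Algebra A A'] [Algebra A' B'] [Algebra B B']
  [Algebra A B'] [IsScalarTower A A' B'] [IsScalarTower A B B'] [Algebra.IsPushout A A' B B']

/-- Base change of presentations. -/
theorem baseChange_presentation {n : ℕ} (φ : MvPolynomial (Fin n) A →ₐ[A] B) (hφ : Surjective φ) :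
    ∃ φ' : MvPolynomial (Fin n) A' →ₐ[A'] B', Surjective φ' ∧
      letI := φ.toRingHom.toAlgebra
      letI := φ'.toRingHom.toAlgebra
      Nonempty (MvPolynomial (Fin n) A' ⊗[MvPolynomial (Fin n) A] B ≃ₗ[MvPolynomial (Fin n) A'] B') := by
  let φ' : MvPolynomial (Fin n) A' →ₐ[A'] B' :=
    MvPolynomial.aeval fun i => algebraMap B B' (φ (MvPolynomial.X i))
  letI := φ.toRingHom.toAlgebra
  haveI : IsScalarTower A (MvPolynomial (Fin n) A) B := .of_algHom φ
  letI := φ'.toRingHom.toAlgebra
  haveI : IsScalarTower A' (MvPolynomial (Fin n) A') B' := .of_algHom φ'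
  letI : Algebra (MvPolynomial (Fin n) A) B' := ((algebraMap B B').comp φ.toRingHom).toAlgebra
  haveI : IsScalarTower (MvPolynomial (Fin n) A) B B' := .of_algebraMap_eq fun _ => rfl
  haveI : IsScalarTower A (MvPolynomial (Fin n) A') B' := .of_algebraMap_eq fun a => by
    show algebraMap A B' a = φ' (algebraMap A _ a)
    rw [IsScalarTower.algebraMap_apply A A' (MvPolynomial (Fin n) A'), φ'.commutes,
      ← IsScalarTower.algebraMap_apply]
  haveI : IsScalarTower A (MvPolynomial (Fin n) A) B' := .of_algebraMap_eq fun a => by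
    show algebraMap A B' a = algebraMap B B' (φ (algebraMap A _ a))
    rw [φ.commutes, ← IsScalarTower.algebraMap_apply]
  have hsq : (φ'.toRingHom.comp (algebraMap (MvPolynomial (Fin n) A) (MvPolynomial (Fin n) A'))) =
      (algebraMap B B').comp φ.toRingHom := by
    refine ringHom_ext (fun a => ?_) fun i => ?_
    · show φ' (MvPolynomial.map (algebraMap A A') (MvPolynomial.C a)) = algebraMap B B' (φ (MvPolynomial.C a))
      rw [map_C, ← MvPolynomial.algebraMap_eq, ← MvPolynomial.algebraMap_eq, φ'.commutes, φ.commutes,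
        ← IsScalarTower.algebraMap_apply, ← IsScalarTower.algebraMap_apply]
    · show φ' (MvPolynomial.map (algebraMap A A') (MvPolynomial.X i)) = algebraMap B B' (φ (MvPolynomial.X i))
      rw [map_X]; simp [φ']
  haveI : IsScalarTower (MvPolynomial (Fin n) A) (MvPolynomial (Fin n) A') B' :=
    .of_algebraMap_eq fun p => (RingHom.congr_fun hsq p).symm
  haveI h0 : Algebra.IsPushout A (MvPolynomial (Fin n) A) A' (MvPolynomial (Fin n) A') := inferInstance
  haveI hP : Algebra.IsPushout (MvPolynomial (Fin n) A) B (MvPolynomial (Fin n) A') B' :=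
    (Algebra.IsPushout.comp_iff (R := A) (S := MvPolynomial (Fin n) A) (R' := A')
      (S' := MvPolynomial (Fin n) A') (T := B) (T' := B')).1 (Algebra.IsPushout.symm ‹Algebra.IsPushout A A' B B'›)
  obtain ⟨e, he⟩ := exists_pushout_equiv _ _ _ _ hP.symm
  refine ⟨φ', fun y => ?_, ⟨e⟩⟩
  obtain ⟨x, rfl⟩ := e.surjective y
  induction x using TensorProduct.induction_on with
  | zero => exact ⟨0, by simp⟩
  | add a b ha hb =>
    obtain ⟨u, hu⟩ := ha
    obtain ⟨v, hv⟩ := hb
    exact ⟨u + v, by rw [map_add, map_add, hu, hv]⟩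
  | tmul p b =>
    obtain ⟨q, rfl⟩ := hφ b
    refine ⟨p * algebraMap _ _ q, ?_⟩
    rw [map_mul, he]
    exact congrArg (φ' p * ·) (RingHom.congr_fun hsq q)

/-- Flat base change. -/
theorem pcHom_baseChange [Module.Flat A A'] (h : MoreMor.IsPseudoCoherentHom A B) :
    MoreMor.IsPseudoCoherentHom A' B' := by
  obtain ⟨n, φ, hφ, h1⟩ := pcHom_iff.1 h
  obtain ⟨φ', hφ', ⟨e⟩⟩ := baseChange_presentation A' B' φ hφ
  letI := φ.toRingHom.toAlgebra
  letI := φ'.toRingHom.toAlgebra
  haveI : Module.Flat (MvPolynomial (Fin n) A) (MvPolynomial (Fin n) A') :=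
    Module.Flat.of_linearEquiv
      (Algebra.IsPushout.equiv A (MvPolynomial (Fin n) A) A' (MvPolynomial (Fin n) A')).toLinearEquiv.symm
  exact pcHom_iff.2 ⟨n, φ', hφ', fun k => pc_congr e (pc_baseChange k B (h1 k))⟩

/-- Faithfully flat descent. -/
theorem pcHom_descend [Module.FaithfullyFlat A A'] (h : MoreMor.IsPseudoCoherentHom A' B') :
    MoreMor.IsPseudoCoherentHom A B := by
  haveI := pcHom_finiteType h
  haveI : Algebra.FiniteType A' (A' ⊗[A] B) :=
    Algebra.FiniteType.equiv ‹_› (Algebra.IsPushout.equiv A A' B B').symm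
  haveI : Algebra.FiniteType A B := .of_finiteType_tensorProduct_of_faithfullyFlat A'
  obtain ⟨n, φ, hφ⟩ := Algebra.FiniteType.iff_quotient_mvPolynomial''.1 ‹Algebra.FiniteType A B›
  obtain ⟨φ', hφ', ⟨e⟩⟩ := baseChange_presentation A' B' φ hφ
  letI := φ.toRingHom.toAlgebra
  letI := φ'.toRingHom.toAlgebra
  haveI : Module.FaithfullyFlat (MvPolynomial (Fin n) A) (MvPolynomial (Fin n) A') :=
    Module.FaithfullyFlat.of_linearEquiv _ _
      (Algebra.IsPushout.equiv A (MvPolynomial (Fin n) A) A' (MvPolynomial (Fin n) A')).toLinearEquiv.symm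
  exact pcHom_iff.2 ⟨n, φ, hφ, fun k => pc_of_baseChange k B (pc_congr e.symm (pcHom_pcs h φ' hφ' k))⟩

end Hom

end Groth.Agent.FlatMorPerfect
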