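import Groth.Agent.FlatMorPerfect.Mor
import Groth.Prelude.Def_Mor2
import Groth.Agent.CAlgH.KoszulH1
import Groth.Agent.CAlgH.KoszulRegular
import Mathlib.LinearAlgebra.ExteriorPower.Basis
import Mathlib.RingTheory.Localization.Algebra

/-!
# Quotients by Koszul regular sequences and local complete intersection maps are perfect
-/

universe u

set_option autoImplicit false
set_option backward.isDefEq.respectTransparency false
set_option linter.style.haveILetI false

open AlgebraicGeometry CategoryTheory TensorProduct Function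

attribute [local instance] HasDerivedCategory.standard

namespace Groth.Agent.FlatMorPerfect

open Groth.Agent.CAlgH.KoszulRegular Groth.Agent.Disc12.Koszul

section

variable {R : Type u} [CommRing R]

theorem pc_td_coker_d {n : ℕ} {f : Fin n → R} (hf : KReg f) : ∀ (j p : ℕ), p + j = n + 1 →
    (∀ k, PC R k (K R n p ⧸ LinearMap.range (d f p))) ∧ TD R j (K R n p ⧸ LinearMap.range (d f p)) := by
  intro j
  induction j with
  | zero =>
    intro p hp
    obtain rfl : p = n + 1 := hp
    haveI : IsEmpty (Set.powersetCard (Fin n) (n + 1)) := ⟨fun s => by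
      have h1 : (s.1 : Finset (Fin n)).card = n + 1 := s.2
      have h2 := Finset.card_le_univ (s.1 : Finset (Fin n))
      simp [h1] at h2⟩
    haveI : Subsingleton (K R n (n + 1)) :=
      ((Pi.basisFun R (Fin n)).exteriorPower (n + 1)).repr.toEquiv.subsingleton
    haveI : Subsingleton (K R n (n + 1) ⧸ LinearMap.range (d f (n + 1))) :=
      (Submodule.mkQ_surjective _).subsingleton
    exact ⟨fun k => pc_free k, td_of_flat 0⟩
  | succ j ih =>
    intro p hp
    obtain ⟨h1, h2⟩ := ih (p + 1) (by omega)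
    haveI : Module.Free R (K R n p) := Module.Free.of_basis ((Pi.basisFun R (Fin n)).exteriorPower p)
    haveI : Module.Finite R (K R n p) := Module.Finite.of_basis ((Pi.basisFun R (Fin n)).exteriorPower p)
    have hker : LinearMap.range (d f (p + 1)) = LinearMap.ker (d f p) := (LinearMap.exact_iff.1 (hf p)).symm
    let i := (LinearMap.range (d f (p + 1))).liftQ (d f p) hker.le
    have hi : Injective i := LinearMap.ker_eq_bot.1 (Submodule.ker_liftQ_eq_bot _ _ _ hker.ge)
    have hex : Exact i (LinearMap.range (d f p)).mkQ := by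
      rw [LinearMap.exact_iff, Submodule.ker_mkQ, Submodule.range_liftQ]
    have hsurj := Submodule.mkQ_surjective (LinearMap.range (d f p))
    exact ⟨fun k => pc_pred (pc_coker hex hsurj hi (h1 k) (pc_free (k + 1))),
      td_coker hex hsurj hi h2 (td_of_flat (j + 1))⟩

/-- The quotient by a Koszul regular sequence. -/
theorem pc_td_quotient {n : ℕ} {f : Fin n → R} (hf : KReg f) :
    (∀ k, PC R k (R ⧸ Ideal.span (Set.range f))) ∧ TD R (n + 1) (R ⧸ Ideal.span (Set.range f)) := by
  have hinj : Injective (e0 (R := R) (n := n)) := fun a b h =>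
    (ExteriorAlgebra.algebraMap_leftInverse (Fin n → R)).injective (congrArg Subtype.val h)
  let e : R ≃ₗ[R] K R n 0 := LinearEquiv.ofBijective e0 ⟨hinj, e0_surjective⟩
  let q : (R ⧸ Ideal.span (Set.range f)) ≃ₗ[R] K R n 0 ⧸ LinearMap.range (d f 0) :=
    Submodule.Quotient.equiv _ _ e (range_d_zero f).symm
  obtain ⟨h1, h2⟩ := pc_td_coker_d hf (n + 1) 0 (by omega)
  exact ⟨fun k => pc_congr q.symm (h1 k), td_congr q.symm h2⟩

theorem ringPC_of_pcs {S : Type u} [CommRing S] {φ : R →+* S} (hφ : Surjective φ) (h : PCS φ) : RingPC φ := by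
  letI := φ.toAlgebra
  let e := MvPolynomial.isEmptyAlgEquiv R (Fin 0)
  refine pcHom_iff.2 ⟨0, (Algebra.ofId R S).comp e.toAlgHom, hφ.comp e.surjective, ?_⟩
  exact (pcs_equiv e.toRingEquiv).comp h

/-- A surjection with kernel generated by a Koszul regular sequence. -/
theorem ringPerf_of_kreg {S : Type u} [CommRing S] {φ : R →+* S} (hφ : Surjective φ) {n : ℕ} {f : Fin n → R}
    (hf : KReg f) (hker : RingHom.ker φ = Ideal.span (Set.range f)) : RingPerf φ := by
  letI := φ.toAlgebra
  let g : (R ⧸ Ideal.span (Set.range f)) ≃ₗ[R] S :=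
    (Submodule.quotEquivOfEq _ _ hker.symm).trans ((Algebra.linearMap R S).quotKerEquivOfSurjective hφ)
  obtain ⟨h1, h2⟩ := pc_td_quotient hf
  rw [ringPerf_iff]
  refine ⟨ringPC_of_pcs hφ ((pcs_iff rfl).2 fun k => pc_congr g (h1 k)), ⟨n + 1, ?_⟩⟩
  exact td_congr g h2

theorem ringPerf_of_isWeaklyRegular {S : Type u} [CommRing S] {φ : R →+* S} (hφ : Surjective φ)
    {rs : List R} (hrs : RingTheory.Sequence.IsWeaklyRegular R rs) (hker : RingHom.ker φ = Ideal.ofList rs) :
    RingPerf φ :=
  ringPerf_of_kreg hφ (f := rs.get) (CAlgH.KoszulH1.kreg_of_isWeaklyRegular (by rwa [List.ofFn_get]))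
    (hker.trans (span_range_get rs).symm)

theorem ringPerf_of_isKoszulRegularIdeal {S : Type u} [CommRing S] {φ : R →+* S} (hφ : Surjective φ)
    (h : LCI.IsKoszulRegularIdeal (RingHom.ker φ)) : RingPerf φ := by
  let t : Set S := {s | RingPerf ((algebraMap S (Localization.Away s)).comp φ)}
  refine ringPerf_ofLocalizationSpanTarget φ t ?_ fun r => r.2
  by_contra hne
  obtain ⟨m, hm, hle⟩ := Ideal.exists_le_maximal _ hne
  haveI := hm
  obtain ⟨g, hg, l, hl, hspan⟩ := h ⟨m.comap φ, Ideal.IsPrime.comap φ⟩ fun x hx => by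
    show φ x ∈ m
    rw [RingHom.mem_ker.1 hx]; exact zero_mem m
  refine hg (hle (Ideal.subset_span (show φ g ∈ t from ?_)))
  let Rg := Localization.Away g
  let Sg := Localization.Away (φ g)
  let μ : Rg →+* Sg := IsLocalization.Away.map Rg Sg φ g
  have hμ : μ.comp (algebraMap R Rg) = (algebraMap S Sg).comp φ := IsLocalization.map_comp _
  have hμs : Surjective μ := by
    intro y
    obtain ⟨b, ⟨_, m, rfl⟩, rfl⟩ := IsLocalization.exists_mk'_eq (Submonoid.powers (φ g)) y
    obtain ⟨x, rfl⟩ := hφ b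
    refine ⟨IsLocalization.mk' Rg x (⟨g ^ m, m, rfl⟩ : Submonoid.powers g), ?_⟩
    show IsLocalization.map _ _ _ _ = _
    rw [IsLocalization.map_mk']
    congr 1
    exact Subtype.ext (map_pow φ g m)
  have hkerμ : RingHom.ker μ = (RingHom.ker φ).map (algebraMap R Rg) :=
    IsLocalization.ker_map (M := Submonoid.powers g) (T := Submonoid.powers (φ g)) (Q := Sg) (g := φ)
      (Submonoid.map_powers φ g)
  show RingPerf _
  rw [← hμ]
  refine (ringPerf_away (B := Rg) g).comp (ringPerf_of_kreg hμs (f := l.get) ?_ ?_)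
  · exact (isKoszulRegularSeq_iff l.get).1 (by rwa [List.ofFn_get])
  · rw [hkerμ, hspan, span_range_get]

/-- Local complete intersection ring maps are perfect. -/
theorem ringPerf_of_isLCI {A B : Type u} [CommRing A] [CommRing B] [Algebra A B] (h : LCI.IsLCI A B) :
    RingPerf (algebraMap A B) := by
  obtain ⟨-, n, α, hα, hI⟩ := h
  rw [← α.comp_algebraMap]
  refine RingPerf.comp (ringPerf_of_flat _ ?_ ?_) (ringPerf_of_isKoszulRegularIdeal hα hI)
  · exact RingHom.flat_algebraMap_iff.2 inferInstance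
  · exact RingHom.finitePresentation_algebraMap.2 inferInstance

theorem ringPC_source : RingHom.StableUnderCompositionWithLocalizationAwaySource @RingPC :=
  fun _ S _ _ _ _ _ r _ _ hf => ((ringPerf_iff _).1 (ringPerf_away (B := S) r)).1.comp hf

theorem ringPerf_source : RingHom.StableUnderCompositionWithLocalizationAwaySource @RingPerf :=
  fun _ S _ _ _ _ _ r _ _ hf => (ringPerf_away (B := S) r).comp hf

end

/-- Regular closed immersions are perfect. -/
theorem perfectMor_of_regularClosedImmersion {Z X : Scheme.{u}} (i : Z ⟶ X)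
    (hi : Mor2.IsRegularClosedImmersion i) : MoreMor.IsPerfectMor i := by
  obtain ⟨hcl, hloc⟩ := hi
  haveI := hcl
  rw [HasRingHomProperty.iff_exists_appLE (P := @MoreMor.IsPerfectMor) ringPerf_source]
  intro z
  obtain ⟨U, hU, hz, rs, hrs, hker⟩ := hloc z
  refine ⟨⟨U, hU⟩, ⟨i ⁻¹ᵁ U, hU.preimage i⟩, hz, le_rfl, ?_⟩
  rw [← Scheme.Hom.app_eq_appLE]
  exact ringPerf_of_isWeaklyRegular (i.app_surjective U hU) hrs.toIsWeaklyRegular
    ((Scheme.Hom.ker_apply i ⟨U, hU⟩).symm.trans hker)

end Groth.Agent.FlatMorPerfect
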