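import Groth.Agent.FlatMorPerfect.Koszul
import Groth.Agent.S1676
import Mathlib.RingTheory.Smooth.Basic
import Mathlib.AlgebraicGeometry.Morphisms.Smooth

/-!
# Perfectness of morphisms into smooth schemes
-/

universe u

set_option autoImplicit false
set_option backward.isDefEq.respectTransparency false
set_option linter.style.haveILetI false

open AlgebraicGeometry CategoryTheory TensorProduct TopologicalSpace

attribute [local instance] HasDerivedCategory.standard

namespace Groth.Agent.FlatMorPerfect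

/-- A retraction of a smooth ring map is perfect. -/
theorem ringPerf_of_retraction {C D : Type u} [CommRing C] [CommRing D] [Algebra C D] [Algebra.Smooth C D]
    (μ : D →ₐ[C] C) : RingPerf μ.toRingHom := by
  have hμ : Function.Surjective μ := fun c => ⟨algebraMap C D c, μ.commutes c⟩
  let σ := Spec.map (CommRingCat.ofHom μ.toRingHom)
  let f' := Spec.map (CommRingCat.ofHom (algebraMap C D))
  haveI : Smooth f' := (HasRingHomProperty.Spec_iff (P := @Smooth)).2 (RingHom.smooth_algebraMap.2 ‹_›)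
  haveI : IsClosedImmersion σ := IsClosedImmersion.spec_of_surjective _ hμ
  have h : σ ≫ f' = 𝟙 (Spec (CommRingCat.of C)) := by
    rw [← Spec.map_comp, ← Spec.map_id]
    congr 1
    ext c
    exact μ.commutes c
  have := perfectMor_of_regularClosedImmersion σ (S1676.result f' σ h)
  exact (HasRingHomProperty.Spec_iff (P := @MoreMor.IsPerfectMor)).1 this

/-- If `A → B` is smooth and `A → C` is perfect then so is `B → C`. -/
theorem ringPerf_of_smooth {A B C : Type u} [CommRing A] [CommRing B] [CommRing C] [Algebra A B] [Algebra A C]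
    [Algebra.Smooth A B] (ψ : B →ₐ[A] C) (h : RingPerf (algebraMap A C)) : RingPerf ψ.toRingHom := by
  let D := C ⊗[A] B
  let μ : D →ₐ[C] C := Algebra.TensorProduct.lift (Algebra.ofId C C) ψ fun _ _ => Commute.all _ _
  letI : Algebra B D := Algebra.TensorProduct.rightAlgebra
  have h1 : RingPerf (algebraMap B D) := ringPerf_baseChange (R := A) (S := C) (R' := B) (S' := D) h
  have h2 := h1.comp (ringPerf_of_retraction μ)
  have e : μ.toRingHom.comp (algebraMap B D) = ψ.toRingHom := by
    ext b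
    show μ ((1 : C) ⊗ₜ b) = ψ b
    simp [μ, D]
  rwa [e] at h2

theorem perfectMor_of_comp_smooth {X Y S : Scheme.{u}} (f : X ⟶ Y) (g : Y ⟶ S) [Smooth g]
    (h : MoreMor.IsPerfectMor (f ≫ g)) : MoreMor.IsPerfectMor f := by
  rw [HasRingHomProperty.iff_exists_appLE (P := @MoreMor.IsPerfectMor) ringPerf_source]
  intro x
  obtain ⟨W, hW, hxW, -⟩ := Opens.isBasis_iff_nbhd.mp S.isBasis_affineOpens (Opens.mem_top (g (f x)))
  obtain ⟨V, hV, hxV, hVW⟩ := Opens.isBasis_iff_nbhd.mp Y.isBasis_affineOpens (show f x ∈ g ⁻¹ᵁ W from hxW)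
  obtain ⟨U, hU, hxU, hUV⟩ := Opens.isBasis_iff_nbhd.mp X.isBasis_affineOpens (show x ∈ f ⁻¹ᵁ V from hxV)
  refine ⟨⟨V, hV⟩, ⟨U, hU⟩, hxU, hUV, ?_⟩
  have hUW : U ≤ (f ≫ g) ⁻¹ᵁ W := hUV.trans ((Opens.map f.base).map (homOfLE hVW)).le
  have hsm : (g.appLE W V hVW).hom.Smooth :=
    HasRingHomProperty.appLE @Smooth g inferInstance ⟨W, hW⟩ ⟨V, hV⟩ hVW
  have hperf : RingPerf ((f ≫ g).appLE W U hUW).hom :=
    HasRingHomProperty.appLE @MoreMor.IsPerfectMor (f ≫ g) h ⟨W, hW⟩ ⟨U, hU⟩ hUW
  have e : ((f ≫ g).appLE W U hUW).hom = (f.appLE V U hUV).hom.comp (g.appLE W V hVW).hom := by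
    rw [← CommRingCat.hom_comp, Scheme.Hom.appLE_comp_appLE]
  letI := (g.appLE W V hVW).hom.toAlgebra
  letI := ((f ≫ g).appLE W U hUW).hom.toAlgebra
  haveI : Algebra.Smooth Γ(S, W) Γ(Y, V) := hsm
  exact ringPerf_of_smooth
    { toRingHom := (f.appLE V U hUV).hom
      commutes' := fun a => (RingHom.congr_fun e a).symm }
    (by rw [RingHom.algebraMap_toAlgebra]; exact hperf)

end Groth.Agent.FlatMorPerfect
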