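import Groth.Agent.FlatMorPerfect.SourceRing
import Groth.Agent.FlatMor12.EtaleSlice
import Mathlib.AlgebraicGeometry.Morphisms.UniversallyOpen

/-!
# Pseudo-coherence and perfectness are fppf local on the source
-/

universe u

set_option autoImplicit false
set_option backward.isDefEq.respectTransparency false
set_option linter.style.haveILetI false

open AlgebraicGeometry CategoryTheory TopologicalSpace

attribute [local instance] HasDerivedCategory.standard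

namespace Groth.Agent.FlatMorPerfect

variable {X X' S : Scheme.{u}}

/-- Cancellation for pseudo-coherent morphisms. -/
theorem pcMor_of_comp {P Q R : Scheme.{u}} (f : P ⟶ Q) (g : Q ⟶ R) (hg : MoreMor.IsPseudoCoherentMor g)
    (h : MoreMor.IsPseudoCoherentMor (f ≫ g)) : MoreMor.IsPseudoCoherentMor f := by
  rw [HasRingHomProperty.iff_exists_appLE (P := @MoreMor.IsPseudoCoherentMor) ringPC_source]
  intro x
  obtain ⟨W, hW, hxW, -⟩ := Opens.isBasis_iff_nbhd.mp R.isBasis_affineOpens (Opens.mem_top (g (f x)))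
  obtain ⟨V, hV, hxV, hVW⟩ := Opens.isBasis_iff_nbhd.mp Q.isBasis_affineOpens (show f x ∈ g ⁻¹ᵁ W from hxW)
  obtain ⟨U, hU, hxU, hUV⟩ := Opens.isBasis_iff_nbhd.mp P.isBasis_affineOpens (show x ∈ f ⁻¹ᵁ V from hxV)
  refine ⟨⟨V, hV⟩, ⟨U, hU⟩, hxU, hUV, ?_⟩
  have hUW : U ≤ (f ≫ g) ⁻¹ᵁ W := hUV.trans ((Opens.map f.base).map (homOfLE hVW)).le
  have h1 : RingPC (g.appLE W V hVW).hom :=
    HasRingHomProperty.appLE @MoreMor.IsPseudoCoherentMor g hg ⟨W, hW⟩ ⟨V, hV⟩ hVW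
  have h2 : RingPC ((f ≫ g).appLE W U hUW).hom :=
    HasRingHomProperty.appLE @MoreMor.IsPseudoCoherentMor (f ≫ g) h ⟨W, hW⟩ ⟨U, hU⟩ hUW
  rw [← Scheme.Hom.appLE_comp_appLE (U := W) (V := V) (W := U) f g hVW hUV, CommRingCat.hom_comp] at h2
  exact h1.of_comp h2

theorem pcMor_of_flat (j : X' ⟶ X) [Flat j] [LocallyOfFinitePresentation j] :
    MoreMor.IsPseudoCoherentMor j := fun U V hU hV hUV => (perfectMor_of_flat j U V hU hV hUV).1

/-- Around a point of the image, an fppf morphism has a faithfully flat affine piece. -/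
theorem exists_fppf_piece (a : X' ⟶ X) [Flat a] [LocallyOfFinitePresentation a] (x' : X') (U₀ : X.Opens)
    (hU₀ : IsAffineOpen U₀) (hx : a x' ∈ U₀) :
    ∃ (U : X.affineOpens) (W : X'.affineOpens) (e : W.1 ≤ a ⁻¹ᵁ U.1), U.1 ≤ U₀ ∧ a x' ∈ U.1 ∧
      (a.appLE U W e).hom.FaithfullyFlat := by
  obtain ⟨W₀, hW₀, hx', hW₀U⟩ := Opens.isBasis_iff_nbhd.mp X'.isBasis_affineOpens (show x' ∈ a ⁻¹ᵁ U₀ from hx)
  obtain ⟨g, hgle, hxg⟩ := hU₀.exists_basicOpen_le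
    (V := ⟨a '' (W₀ : Set X'), a.isOpenMap _ W₀.2⟩) (x := ⟨a x', ⟨x', hx', rfl⟩⟩) hx
  let W : X'.Opens := W₀ ⊓ a ⁻¹ᵁ X.basicOpen g
  have hW : IsAffineOpen W := by
    have : W = X'.basicOpen (a.appLE U₀ W₀ hW₀U g) := (Scheme.basicOpen_appLE a W₀ U₀ hW₀U g).symm
    rw [this]; exact hW₀.basicOpen _
  have e : W ≤ a ⁻¹ᵁ X.basicOpen g := inf_le_right
  refine ⟨⟨X.basicOpen g, hU₀.basicOpen g⟩, ⟨W, hW⟩, e, X.basicOpen_le g, hxg, ?_⟩
  rw [RingHom.FaithfullyFlat.iff_flat_and_comap_surjective]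
  refine ⟨HasRingHomProperty.appLE @Flat a inferInstance ⟨_, hU₀.basicOpen g⟩ ⟨W, hW⟩ e, fun P => ?_⟩
  have hy : (hU₀.basicOpen g).fromSpec P ∈ X.basicOpen g := (hU₀.basicOpen g).range_fromSpec.le ⟨P, rfl⟩
  obtain ⟨w, hw, hwy⟩ := hgle hy
  have hwW : w ∈ W := ⟨hw, show a w ∈ X.basicOpen g by rw [hwy]; exact hy⟩
  refine ⟨hW.primeIdealOf ⟨w, hwW⟩, (hU₀.basicOpen g).fromSpec.isOpenEmbedding.injective ?_⟩
  show (Spec.map (a.appLE (X.basicOpen g) W e) ≫ (hU₀.basicOpen g).fromSpec) (hW.primeIdealOf ⟨w, hwW⟩) = _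
  rw [(hU₀.basicOpen g).SpecMap_appLE_fromSpec a hW e, Scheme.Hom.comp_apply, hW.fromSpec_primeIdealOf, hwy]

/-- Descent along finite flat surjections. -/
theorem pcMor_of_finite_cover {V T : Scheme.{u}} (π : V ⟶ T) [IsFinite π] [Flat π]
    [LocallyOfFinitePresentation π] [Surjective π] (h : T ⟶ S) (hπ : MoreMor.IsPseudoCoherentMor (π ≫ h)) :
    MoreMor.IsPseudoCoherentMor h := by
  rw [HasRingHomProperty.iff_exists_appLE (P := @MoreMor.IsPseudoCoherentMor) ringPC_source]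
  intro o
  obtain ⟨W, hW, hoW, -⟩ := Opens.isBasis_iff_nbhd.mp S.isBasis_affineOpens (Opens.mem_top (h o))
  obtain ⟨U, hU, hoU, hUW⟩ := Opens.isBasis_iff_nbhd.mp T.isBasis_affineOpens (show o ∈ h ⁻¹ᵁ W from hoW)
  refine ⟨⟨W, hW⟩, ⟨U, hU⟩, hoU, hUW, ?_⟩
  have hV : IsAffineOpen (π ⁻¹ᵁ U) := hU.preimage π
  have hVW : π ⁻¹ᵁ U ≤ (π ≫ h) ⁻¹ᵁ W := ((Opens.map π.base).map (homOfLE hUW)).le
  have h1 : RingPC ((π ≫ h).appLE W (π ⁻¹ᵁ U) hVW).hom :=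
    HasRingHomProperty.appLE @MoreMor.IsPseudoCoherentMor _ hπ ⟨W, hW⟩ ⟨_, hV⟩ hVW
  rw [← Scheme.Hom.appLE_comp_appLE (U := W) (V := U) (W := π ⁻¹ᵁ U) π h hUW le_rfl, CommRingCat.hom_comp] at h1
  have hfin : (π.appLE U (π ⁻¹ᵁ U) le_rfl).hom.Finite := by
    rw [← Scheme.Hom.app_eq_appLE]; exact π.finite_app U hU
  have hfp : (π.appLE U (π ⁻¹ᵁ U) le_rfl).hom.FinitePresentation :=
    HasRingHomProperty.appLE @LocallyOfFinitePresentation π inferInstance ⟨U, hU⟩ ⟨_, hV⟩ le_rfl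
  have hff : (π.appLE U (π ⁻¹ᵁ U) le_rfl).hom.FaithfullyFlat := by
    rw [RingHom.FaithfullyFlat.iff_flat_and_comap_surjective]
    refine ⟨HasRingHomProperty.appLE @Flat π inferInstance ⟨U, hU⟩ ⟨_, hV⟩ le_rfl, fun P => ?_⟩
    obtain ⟨w, hw⟩ := π.surjective (hU.fromSpec P)
    have hwV : w ∈ π ⁻¹ᵁ U := show π w ∈ U by rw [hw]; exact hU.range_fromSpec.le ⟨P, rfl⟩
    refine ⟨hV.primeIdealOf ⟨w, hwV⟩, hU.fromSpec.isOpenEmbedding.injective ?_⟩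
    show (Spec.map (π.appLE U (π ⁻¹ᵁ U) le_rfl) ≫ hU.fromSpec) (hV.primeIdealOf ⟨w, hwV⟩) = _
    rw [hU.SpecMap_appLE_fromSpec π hV le_rfl, Scheme.Hom.comp_apply, hV.fromSpec_primeIdealOf, hw]
  algebraize [(h.appLE W U hUW).hom, (π.appLE U (π ⁻¹ᵁ U) le_rfl).hom,
    (π.appLE U (π ⁻¹ᵁ U) le_rfl).hom.comp (h.appLE W U hUW).hom]
  exact pcHom_of_finite_cover h1

/-- Pseudo-coherence descends along fppf covers of the source. -/
theorem pcMor_of_fppf_cover (f : X ⟶ S) (a : X' ⟶ X) [Flat a] [Surjective a] [LocallyOfFinitePresentation a]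
    (h : MoreMor.IsPseudoCoherentMor (a ≫ f)) : MoreMor.IsPseudoCoherentMor f := by
  rw [HasRingHomProperty.iff_exists_appLE (P := @MoreMor.IsPseudoCoherentMor) ringPC_source]
  intro x
  obtain ⟨x', hx'⟩ := a.surjective x
  obtain ⟨T, V, e, π, he, ⟨o, ho⟩, hπs, hπfin, hπflat, hπfp, r, hr⟩ := FlatMor12.exists_etale_finite_slice a x x' hx'
  have hr' : MoreMor.IsPseudoCoherentMor r := by
    refine pcMor_of_comp r a (pcMor_of_flat a) ?_
    rw [hr]; exact pcMor_of_flat (π ≫ e)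
  have hef : MoreMor.IsPseudoCoherentMor (e ≫ f) := by
    refine pcMor_of_finite_cover π (e ≫ f) ?_
    rw [← Category.assoc, ← hr, Category.assoc]
    exact pcMor_comp _ _ hr' h
  obtain ⟨W, hW, hxW, -⟩ := Opens.isBasis_iff_nbhd.mp S.isBasis_affineOpens (Opens.mem_top (f x))
  obtain ⟨U₀, hU₀, hxU₀, hU₀W⟩ := Opens.isBasis_iff_nbhd.mp X.isBasis_affineOpens (show x ∈ f ⁻¹ᵁ W from hxW)
  obtain ⟨U, W', hW'U, hUle, hxU, hff⟩ := exists_fppf_piece e o U₀ hU₀ (by rw [ho]; exact hxU₀)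
  refine ⟨⟨W, hW⟩, U, by rw [← ho]; exact hxU, hUle.trans hU₀W, ?_⟩
  have hW'W : W'.1 ≤ (e ≫ f) ⁻¹ᵁ W := hW'U.trans ((Opens.map e.base).map (homOfLE (hUle.trans hU₀W))).le
  have h1 : RingPC ((e ≫ f).appLE W W' hW'W).hom :=
    HasRingHomProperty.appLE @MoreMor.IsPseudoCoherentMor _ hef ⟨W, hW⟩ W' hW'W
  rw [← Scheme.Hom.appLE_comp_appLE (U := W) (V := U.1) (W := W'.1) e f (hUle.trans hU₀W) hW'U, CommRingCat.hom_comp] at h1
  have het : (e.appLE U W' hW'U).hom.Etale := HasRingHomProperty.appLE @Etale e he U W' hW'U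
  algebraize [(f.appLE W U (hUle.trans hU₀W)).hom, (e.appLE U W' hW'U).hom,
    (e.appLE U W' hW'U).hom.comp (f.appLE W U (hUle.trans hU₀W)).hom]
  exact pcHom_of_etale_cover h1

/-- Perfectness descends along fppf covers of the source. -/
theorem perfectMor_of_fppf_cover (f : X ⟶ S) (a : X' ⟶ X) [Flat a] [Surjective a] [LocallyOfFinitePresentation a]
    (h : MoreMor.IsPerfectMor (a ≫ f)) : MoreMor.IsPerfectMor f := by
  have hpc : MoreMor.IsPseudoCoherentMor f :=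
    pcMor_of_fppf_cover f a fun U V hU hV hUV => (h U V hU hV hUV).1
  rw [HasRingHomProperty.iff_exists_appLE (P := @MoreMor.IsPerfectMor) ringPerf_source]
  intro x
  obtain ⟨x', hx'⟩ := a.surjective x
  obtain ⟨W, hW, hxW, -⟩ := Opens.isBasis_iff_nbhd.mp S.isBasis_affineOpens (Opens.mem_top (f x))
  obtain ⟨U₀, hU₀, hxU₀, hU₀W⟩ := Opens.isBasis_iff_nbhd.mp X.isBasis_affineOpens (show x ∈ f ⁻¹ᵁ W from hxW)
  obtain ⟨U, W', hW'U, hUle, hxU, hff⟩ := exists_fppf_piece a x' U₀ hU₀ (by rw [hx']; exact hxU₀)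
  refine ⟨⟨W, hW⟩, U, by rw [← hx']; exact hxU, hUle.trans hU₀W, ?_⟩
  have hW'W : W'.1 ≤ (a ≫ f) ⁻¹ᵁ W := hW'U.trans ((Opens.map a.base).map (homOfLE (hUle.trans hU₀W))).le
  have h1 : RingPerf ((a ≫ f).appLE W W' hW'W).hom :=
    HasRingHomProperty.appLE @MoreMor.IsPerfectMor _ h ⟨W, hW⟩ W' hW'W
  rw [← Scheme.Hom.appLE_comp_appLE (U := W) (V := U.1) (W := W'.1) a f (hUle.trans hU₀W) hW'U, CommRingCat.hom_comp,
    ringPerf_iff] at h1
  rw [ringPerf_iff]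
  refine ⟨HasRingHomProperty.appLE @MoreMor.IsPseudoCoherentMor f hpc ⟨W, hW⟩ U (hUle.trans hU₀W), ?_⟩
  algebraize [(f.appLE W U (hUle.trans hU₀W)).hom, (a.appLE U W' hW'U).hom,
    (a.appLE U W' hW'U).hom.comp (f.appLE W U (hUle.trans hU₀W)).hom]
  obtain ⟨n, hn⟩ := h1.2
  exact ⟨n, td_of_faithfullyFlat _ hn⟩

end Groth.Agent.FlatMorPerfect
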