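import Groth.Agent.FlatMorPerfect.Koszul
import Groth.Agent.FlatCx12.PCFinitePresentation
import Groth.Agent.AlgSpLib.SourceRingEtale
import Groth.Agent.AlgSpLib.FppfRing
import Mathlib.RingTheory.AdjoinRoot
import Mathlib.RingTheory.Flat.EquationalCriterion
import Mathlib.RingTheory.Spectrum.Prime.Chevalley

/-!
# Pseudo-coherence descends along finite flat and along etale covers of the source
-/

universe u

set_option autoImplicit false
set_option backward.isDefEq.respectTransparency false
set_option linter.style.haveILetI false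

open TensorProduct Function MvPolynomial

attribute [local instance] HasDerivedCategory.standard

namespace Groth.Agent.FlatMorPerfect

section Cancel

variable {A B C : Type u} [CommRing A] [CommRing B] [CommRing C]

/-- Cancellation: a map of algebras with pseudo-coherent structure maps is pseudo-coherent. -/
theorem pcHom_of_comp [Algebra A B] [Algebra B C] [Algebra A C] [IsScalarTower A B C]
    (hAB : MoreMor.IsPseudoCoherentHom A B) (hAC : MoreMor.IsPseudoCoherentHom A C) :
    MoreMor.IsPseudoCoherentHom B C := by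
  haveI := pcHom_finiteType hAC
  haveI : Algebra.FiniteType B C := Algebra.FiniteType.of_restrictScalars_finiteType A B C
  obtain ⟨n, φ, hφ, h1⟩ := pcHom_iff.1 hAB
  obtain ⟨m, ψ, hψ⟩ := Algebra.FiniteType.iff_quotient_mvPolynomial''.1 ‹Algebra.FiniteType B C›
  let γ : MvPolynomial (Fin m) (MvPolynomial (Fin n) A) →ₐ[A] C :=
    { toRingHom := ψ.toRingHom.comp (MvPolynomial.map φ.toRingHom)
      commutes' := fun a => by
        show ψ (MvPolynomial.map φ.toRingHom (algebraMap A _ a)) = algebraMap A C a
        rw [IsScalarTower.algebraMap_apply A (MvPolynomial (Fin n) A), MvPolynomial.algebraMap_eq, map_C,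
          IsScalarTower.algebraMap_apply A B C, show φ.toRingHom (algebraMap A _ a) = algebraMap A B a from
            φ.commutes a, ← MvPolynomial.algebraMap_eq, ψ.commutes] }
  have h2 : PCS γ.toRingHom := (pcHom_iff_two γ (hψ.comp (MvPolynomial.map_surjective _ hφ))).1 hAC
  exact pcHom_iff.2 ⟨m, ψ, hψ, ((pcs_map h1 (Fin m)).comp_iff ψ.toRingHom).1 h2⟩

theorem RingPC.of_comp {f : A →+* B} {g : B →+* C} (hf : RingPC f) (h : RingPC (g.comp f)) : RingPC g := by
  letI := f.toAlgebra
  letI := g.toAlgebra
  letI := (g.comp f).toAlgebra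
  haveI : IsScalarTower A B C := .of_algebraMap_eq fun _ => rfl
  exact pcHom_of_comp hf h

theorem pcs_of_ringPC {φ : A →+* B} (hφ : Surjective φ) (h : RingPC φ) : PCS φ := by
  letI := φ.toAlgebra
  let e := MvPolynomial.isEmptyAlgEquiv A (Fin 0)
  have := pcHom_pcs h ((Algebra.ofId A B).comp e.toAlgHom) (hφ.comp e.surjective)
  exact ((pcs_equiv e.toRingEquiv).comp_iff φ).1 this

end Cancel

section Family

/-- Pseudo-coherence descends along a finite jointly surjective family of flat algebras. -/
theorem pc_of_family {R : Type u} [CommRing R] {ι : Type} [Finite ι] (S : ι → Type u) [∀ i, CommRing (S i)]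
    [∀ i, Algebra R (S i)] [∀ i, Module.Flat R (S i)]
    (hsurj : ∀ p : PrimeSpectrum R, ∃ i, p ∈ Set.range (PrimeSpectrum.comap (algebraMap R (S i)))) :
    ∀ (k : ℕ) (M : Type u) [AddCommGroup M] [Module R M], (∀ i, PC (S i) k (S i ⊗[R] M)) → PC R k M := by
  have hfin : ∀ (M : Type u) [AddCommGroup M] [Module R M], (∀ i, Module.Finite (S i) (S i ⊗[R] M)) →
      Module.Finite R M := by
    intro M _ _ h
    classical
    haveI := Fintype.ofFinite ι
    choose s hs using fun i => (h i).fg_top
    choose G hG using fun i (z : S i ⊗[R] M) => TensorProduct.exists_finset z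
    let T : Finset M := Finset.univ.biUnion fun i => (s i).biUnion fun z => (G i z).image Prod.snd
    let N : Submodule R M := Submodule.span R (T : Set M)
    refine ⟨⟨T, ?_⟩⟩
    show N = ⊤
    rw [← Submodule.Quotient.subsingleton_iff]
    refine ⟨fun x y => ?_⟩
    have key : ∀ q : M ⧸ N, q = 0 := by
      intro q
      have hq : ∀ i, Ideal.map (algebraMap R (S i)) (LinearMap.ker (LinearMap.toSpanSingleton R (M ⧸ N) q)) = ⊤ := by
        intro i
        refine AlgSpLib.map_ker_toSpanSingleton_eq_top q ?_
        apply (TensorProduct.comm R (M ⧸ N) (S i)).injective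
        rw [map_zero, TensorProduct.comm_tmul]
        obtain ⟨z, hz⟩ := (LinearMap.lTensor_surjective (S i) N.mkQ_surjective : Surjective (N.mkQ.baseChange (S i)))
          ((1 : S i) ⊗ₜ q)
        rw [← hz]
        have h0 : N.mkQ.baseChange (S i) = 0 := by
          refine LinearMap.ext_on (hs i) fun w hw => ?_
          conv_lhs => rw [hG i w]
          rw [map_sum, LinearMap.zero_apply]
          refine Finset.sum_eq_zero fun p hp => ?_
          rw [LinearMap.baseChange_tmul, Submodule.mkQ_apply, (Submodule.Quotient.mk_eq_zero N).2, tmul_zero]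
          exact Submodule.subset_span (Finset.mem_biUnion.2 ⟨i, Finset.mem_univ _,
            Finset.mem_biUnion.2 ⟨w, hw, Finset.mem_image.2 ⟨p, hp, rfl⟩⟩⟩)
        show N.mkQ.baseChange (S i) z = 0
        rw [h0, LinearMap.zero_apply]
      by_contra hne
      have hJ : LinearMap.ker (LinearMap.toSpanSingleton R (M ⧸ N) q) ≠ ⊤ := fun h => hne (by
        simpa using (h ▸ Submodule.mem_top : (1 : R) ∈ LinearMap.ker (LinearMap.toSpanSingleton R (M ⧸ N) q)))
      obtain ⟨p, hp, hle⟩ := Ideal.exists_le_maximal _ hJ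
      obtain ⟨i, Q, hQ⟩ := hsurj ⟨p, hp.isPrime⟩
      refine Q.2.ne_top (top_le_iff.1 ((hq i).symm.le.trans (Ideal.map_le_iff_le_comap.2 ?_)))
      rw [show Q.asIdeal.comap (algebraMap R (S i)) = p from congrArg PrimeSpectrum.asIdeal hQ]
      exact hle
    rw [key x, key y]
  intro k
  induction k with
  | zero => exact fun M _ _ h => pc_zero_iff.2 (hfin M fun i => pc_zero_iff.1 (h i))
  | succ k ih =>
    intro M _ _ h
    haveI := hfin M fun i => pc_finite (h i)
    obtain ⟨r, g, hg⟩ := Module.Finite.exists_fin' R M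
    refine pc_succ_iff.2 ⟨r, g, hg, ih _ fun i => ?_⟩
    obtain ⟨e⟩ := kerBaseChange (B := S i) g
    exact pc_congr e.symm (pc_ker (LinearMap.exact_subtype_ker_map _)
      (LinearMap.lTensor_surjective (S i) hg : Surjective (g.baseChange (S i)))
      (Submodule.injective_subtype _) (pc_free k) (h i))

end Family

section Finite

/-- A pseudo-coherent finite algebra is a pseudo-coherent module. -/
theorem pc_of_finite : ∀ (m : ℕ) {R C : Type u} [CommRing R] [CommRing C] [Algebra R C] [Module.Finite R C]
    (ψ : MvPolynomial (Fin m) R →ₐ[R] C), Surjective ψ → PCS ψ.toRingHom → ∀ k, PC R k C := by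
  intro m
  induction m with
  | zero =>
    intro R C _ _ _ _ ψ _ h
    refine (pcs_iff rfl).1 ?_
    rw [← ψ.comp_algebraMap]
    exact (pcs_equiv (MvPolynomial.isEmptyRingEquiv R (Fin 0)).symm).comp h
  | succ m ih =>
    intro R C _ _ _ _ ψ hψ h
    -- the subalgebra generated by the first variable is finite free
    obtain ⟨g, hg, hgc⟩ := Algebra.IsIntegral.isIntegral (R := R) (ψ (MvPolynomial.X 0))
    let E := AdjoinRoot g
    haveI : Module.Free R E := hg.free_adjoinRoot
    haveI : Module.Finite R E := hg.finite_adjoinRoot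
    let ε : E →ₐ[R] C := AdjoinRoot.liftAlgHom g (Algebra.ofId R C) (ψ (MvPolynomial.X 0)) hgc
    letI : Algebra E C := ε.toRingHom.toAlgebra
    haveI : IsScalarTower R E C := .of_algebraMap_eq fun r => (ε.commutes r).symm
    haveI : Module.Finite E C := Module.Finite.of_restrictScalars_finite R E C
    let ψ' : MvPolynomial (Fin m) E →ₐ[E] C := MvPolynomial.aeval fun j => ψ (MvPolynomial.X j.succ)
    let q : MvPolynomial (Fin m) (Polynomial R) →+* MvPolynomial (Fin m) E :=
      MvPolynomial.map (AdjoinRoot.mk g)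
    let σ := (renameEquiv R (_root_.finSuccEquiv m)).trans (optionEquivRight R (Fin m))
    have e : ψ.toRingHom = (ψ'.toRingHom.comp q).comp σ.toRingEquiv.toRingHom := by
      refine ringHom_ext (fun r => ?_) fun i => ?_
      · show ψ (MvPolynomial.C r) = ψ' (q (σ (MvPolynomial.C r)))
        rw [← MvPolynomial.algebraMap_eq, ψ.commutes, σ.commutes,
          IsScalarTower.algebraMap_apply R (Polynomial R) (MvPolynomial (Fin m) (Polynomial R)),
          MvPolynomial.algebraMap_eq]
        simp only [q, ψ', map_C, MvPolynomial.aeval_C]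
        exact IsScalarTower.algebraMap_apply R E C r
      · refine Fin.cases ?_ (fun j => ?_) i
        · show ψ (MvPolynomial.X 0) = ψ' (q (σ (MvPolynomial.X 0)))
          simp [σ, q, ψ', RingHom.algebraMap_toAlgebra, ε]
          exact (AdjoinRoot.liftAlgHom_root g (Algebra.ofId R C) _ hgc).symm
        · show ψ (MvPolynomial.X j.succ) = ψ' (q (σ (MvPolynomial.X j.succ)))
          simp [σ, q, ψ']
    have hq : PCS q := pcs_map (pcs_adjoinRoot g hg.isRegular.left) (Fin m)
    have hψ' : Surjective ψ' := by
      intro y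
      obtain ⟨x, hx⟩ := hψ y
      exact ⟨_, (RingHom.congr_fun e x).symm.trans hx⟩
    rw [e, (pcs_equiv _).comp_iff, hq.comp_iff] at h
    have hE : ∀ k, PC E k C := ih ψ' hψ' h
    exact fun k => (pc_iff_of_algebra (A := R) (B := E) (fun k => pc_free k) k C).1 (hE k)

variable {A B C : Type u} [CommRing A] [CommRing B] [CommRing C] [Algebra A B] [Algebra B C] [Algebra A C]
  [IsScalarTower A B C]

/-- Descent along finite projective faithfully flat covers of the source. -/
theorem pcHom_of_finite_cover [Module.Finite B C] [Module.FaithfullyFlat B C] [Algebra.FinitePresentation B C]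
    (h : MoreMor.IsPseudoCoherentHom A C) : MoreMor.IsPseudoCoherentHom A B := by
  haveI := pcHom_finiteType h
  haveI : Algebra.FiniteType A B := AlgSpLib.FppfRing.finiteType (B := C)
  obtain ⟨n, φ, hφ⟩ := Algebra.FiniteType.iff_quotient_mvPolynomial''.1 ‹Algebra.FiniteType A B›
  refine pcHom_iff.2 ⟨n, φ, hφ, ?_⟩
  letI := φ.toRingHom.toAlgebra
  haveI : IsScalarTower A (MvPolynomial (Fin n) A) B := .of_algHom φ
  letI : Algebra (MvPolynomial (Fin n) A) C := ((algebraMap B C).comp φ.toRingHom).toAlgebra
  haveI : IsScalarTower (MvPolynomial (Fin n) A) B C := .of_algebraMap_eq fun _ => rfl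
  haveI : IsScalarTower A (MvPolynomial (Fin n) A) C := .of_algebraMap_eq fun a => by
    show algebraMap A C a = algebraMap B C (φ (algebraMap A _ a))
    rw [φ.commutes, ← IsScalarTower.algebraMap_apply]
  haveI : Module.Finite (MvPolynomial (Fin n) A) B := .of_surjective (Algebra.linearMap _ B) hφ
  haveI : Module.Finite (MvPolynomial (Fin n) A) C := Module.Finite.trans B C
  haveI : Algebra.FiniteType (MvPolynomial (Fin n) A) C := Module.Finite.finiteType _
  obtain ⟨m, ψ, hψ⟩ := Algebra.FiniteType.iff_quotient_mvPolynomial''.1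
    ‹Algebra.FiniteType (MvPolynomial (Fin n) A) C›
  have hC : ∀ k, PC (MvPolynomial (Fin n) A) k C :=
    pc_of_finite m ψ hψ ((pcHom_iff_two (ψ.restrictScalars A) hψ).1 h)
  -- `B` is a direct summand of `C`
  haveI : Module.FinitePresentation B C := Module.FinitePresentation.of_finite_of_finitePresentation B C
  haveI : Module.Projective B C := Module.Flat.projective_of_finitePresentation
  obtain ⟨N, p, s, -, -, hps⟩ := Module.Finite.exists_comp_eq_id_of_projective B C
  let J : Ideal B := Ideal.span (Set.range (s 1))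
  have hJ : J = ⊤ := by
    by_contra hne
    obtain ⟨𝔪, h𝔪, hle⟩ := Ideal.exists_le_maximal _ hne
    obtain ⟨Q, hQ⟩ := PrimeSpectrum.comap_surjective_of_faithfullyFlat (A := B) (B := C) ⟨𝔪, h𝔪.isPrime⟩
    refine Q.2.ne_top ((Ideal.eq_top_iff_one _).2 ?_)
    rw [show (1 : C) = p (s 1) from (LinearMap.congr_fun hps 1).symm, p.pi_apply_eq_sum_univ (s 1)]
    refine Ideal.sum_mem _ fun i _ => ?_
    rw [Algebra.smul_def]
    refine Ideal.mul_mem_right _ _ ?_
    show s 1 i ∈ Q.asIdeal.comap (algebraMap B C)
    rw [show Q.asIdeal.comap (algebraMap B C) = 𝔪 from congrArg PrimeSpectrum.asIdeal hQ]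
    exact hle (Ideal.subset_span ⟨i, rfl⟩)
  obtain ⟨c, hc⟩ := Submodule.mem_span_range_iff_exists_fun B |>.1 (show (1 : B) ∈ J by rw [hJ]; trivial)
  let ℓ : C →ₗ[B] B := (∑ i, c i • LinearMap.proj i).comp s
  have hℓ : ℓ 1 = 1 := by simpa [ℓ] using hc
  let r : CategoryTheory.Retract (ModuleCat.of (MvPolynomial (Fin n) A) B) (ModuleCat.of (MvPolynomial (Fin n) A) C) :=
    { i := ModuleCat.ofHom ((Algebra.linearMap B C).restrictScalars _)
      r := ModuleCat.ofHom (ℓ.restrictScalars _)
      retract := by
        ext b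
        show ℓ (algebraMap B C b) = b
        rw [Algebra.algebraMap_eq_smul_one, map_smul, hℓ, smul_eq_mul, mul_one] }
  exact (pcs_iff rfl).2 fun k => DRingLib.pcModule_retract r (hC k)

end Finite

section Etale

theorem subsingleton_away_tensor {R B : Type u} [CommRing R] [CommRing B] [Algebra R B] {h₀ : R}
    (hh₀ : h₀ ∈ RingHom.ker (algebraMap R B)) : Subsingleton (Localization.Away h₀ ⊗[R] B) := by
  suffices hu : ∀ z : Localization.Away h₀ ⊗[R] B, z = 0 from ⟨fun x y => (hu x).trans (hu y).symm⟩
  intro z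
  induction z using TensorProduct.induction_on with
  | zero => rfl
  | add x y hx hy => rw [hx, hy, add_zero]
  | tmul r b =>
    obtain ⟨u, hu⟩ := IsLocalization.Away.algebraMap_isUnit (S := Localization.Away h₀) h₀
    have : r ⊗ₜ[R] b = (r * ↑u⁻¹) ⊗ₜ (h₀ • b) := by
      rw [tmul_smul, smul_tmul', Algebra.smul_def, ← hu, mul_left_comm, Units.mul_inv, mul_one]
    rw [this, Algebra.smul_def, RingHom.mem_ker.1 hh₀, zero_mul, tmul_zero]

theorem pc_lift {A B C : Type u} [CommRing A] [CommRing B] [CommRing C] [Algebra A B] [Algebra B C]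
    [Algebra A C] [IsScalarTower A B C] {n : ℕ} (φ : MvPolynomial (Fin n) A →ₐ[A] B) (hφ : Surjective φ)
    [Algebra (MvPolynomial (Fin n) A) C] [IsScalarTower A (MvPolynomial (Fin n) A) C] {c : C}
    (h : MoreMor.IsPseudoCoherentHom A C) {P : StandardEtalePair (MvPolynomial (Fin n) A)}
    (σ : P.Ring →ₐ[MvPolynomial (Fin n) A] Localization.Away c) (hσ : Surjective σ)
    (hker : RingHom.ker σ = (RingHom.ker φ.toRingHom).map (algebraMap _ P.Ring)) (k : ℕ) :
    letI := φ.toRingHom.toAlgebra
    PC P.Ring k (P.Ring ⊗[MvPolynomial (Fin n) A] B) := by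
  let R := MvPolynomial (Fin n) A
  letI := φ.toRingHom.toAlgebra
  have h1 : RingPC ((algebraMap R P.Ring).comp (algebraMap A R)) := by
    refine ((ringPerf_iff _).1 (ringPerf_of_flat _ ?_ ?_)).1
    · exact RingHom.Flat.comp (RingHom.flat_algebraMap_iff.2 inferInstance)
        (RingHom.flat_algebraMap_iff.2 inferInstance)
    · exact RingHom.FinitePresentation.comp (RingHom.finitePresentation_algebraMap.2 inferInstance)
        (RingHom.finitePresentation_algebraMap.2 inferInstance)
  have h2 : RingPC ((algebraMap C (Localization.Away c)).comp (algebraMap A C)) :=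
    (ringPC_algebraMap.2 h).comp ((ringPerf_iff _).1 (ringPerf_away (B := Localization.Away c) c)).1
  have h3 : (algebraMap C (Localization.Away c)).comp (algebraMap A C) =
      σ.toRingHom.comp ((algebraMap R P.Ring).comp (algebraMap A R)) := by
    ext a
    show algebraMap C (Localization.Away c) (algebraMap A C a) = σ (algebraMap R P.Ring (algebraMap A R a))
    rw [σ.commutes, ← IsScalarTower.algebraMap_apply, ← IsScalarTower.algebraMap_apply]
  rw [h3] at h2
  have h4 : PCS σ.toRingHom := pcs_of_ringPC hσ (RingPC.of_comp h1 h2)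
  let g : P.Ring →ₗ[P.Ring] P.Ring ⊗[R] B := LinearMap.toSpanSingleton _ _ (1 ⊗ₜ 1)
  have hg : Surjective g := by
    intro z
    induction z using TensorProduct.induction_on with
    | zero => exact ⟨0, map_zero g⟩
    | add x y hx hy =>
      obtain ⟨u, rfl⟩ := hx
      obtain ⟨v, rfl⟩ := hy
      exact ⟨u + v, map_add g u v⟩
    | tmul x b =>
      obtain ⟨r, rfl⟩ := hφ b
      refine ⟨algebraMap R P.Ring r * x, ?_⟩
      show (algebraMap R P.Ring r * x) • ((1 : P.Ring) ⊗ₜ[R] (1 : B)) = _
      rw [TensorProduct.smul_tmul', smul_eq_mul, mul_one, ← Algebra.smul_def, TensorProduct.smul_tmul,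
        Algebra.smul_def, mul_one]
      rfl
  have hgk : RingHom.ker σ.toRingHom ≤ LinearMap.ker g := by
    rw [show RingHom.ker σ.toRingHom = RingHom.ker σ from rfl, hker, Ideal.map_le_iff_le_comap]
    intro r hr
    show (algebraMap R P.Ring r) • ((1 : P.Ring) ⊗ₜ[R] (1 : B)) = 0
    rw [algebraMap_smul, ← tmul_smul, Algebra.smul_def, mul_one]
    show (1 : P.Ring) ⊗ₜ[R] φ r = 0
    rw [show φ r = 0 from hr, tmul_zero]
  -- the kernel of `g` is no bigger
  let π : P.Ring ⊗[R] B →+ P.Ring ⧸ RingHom.ker σ.toRingHom :=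
    (Algebra.TensorProduct.lift (Ideal.Quotient.mkₐ R _)
      (AlgHom.liftOfSurjective (Algebra.ofId R B) hφ (Algebra.ofId R _) (fun r hr => by
        show Ideal.Quotient.mk _ (algebraMap R P.Ring r) = 0
        rw [Ideal.Quotient.eq_zero_iff_mem, show RingHom.ker σ.toRingHom = RingHom.ker σ from rfl, hker]
        exact Ideal.mem_map_of_mem _ hr)) fun _ _ => Commute.all _ _).toRingHom.toAddMonoidHom
  have hker' : LinearMap.ker g = RingHom.ker σ.toRingHom := by
    refine le_antisymm (fun x hx => ?_) hgk
    have : π (g x) = 0 := by rw [LinearMap.mem_ker.1 hx, map_zero]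
    rw [← Ideal.Quotient.eq_zero_iff_mem]
    simpa [π, g, TensorProduct.smul_tmul'] using this
  letI := σ.toRingHom.toAlgebra
  let e : Localization.Away c ≃ₗ[P.Ring] P.Ring ⊗[R] B :=
    ((Algebra.linearMap P.Ring (Localization.Away c)).quotKerEquivOfSurjective hσ).symm.trans
      ((Submodule.quotEquivOfEq _ _ hker'.symm).trans (g.quotKerEquivOfSurjective hg))
  exact pc_congr e (h4 k)


variable {A B C : Type u} [CommRing A] [CommRing B] [CommRing C] [Algebra A B] [Algebra B C] [Algebra A C]
  [IsScalarTower A B C]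

/-- Descent along faithfully flat etale covers of the source. -/
theorem pcHom_of_etale_cover [Algebra.Etale B C] [Module.FaithfullyFlat B C]
    (h : MoreMor.IsPseudoCoherentHom A C) : MoreMor.IsPseudoCoherentHom A B := by
  classical
  haveI := pcHom_finiteType h
  haveI : Algebra.FiniteType A B := AlgSpLib.FppfRing.finiteType (B := C)
  obtain ⟨n, φ, hφ⟩ := Algebra.FiniteType.iff_quotient_mvPolynomial''.1 ‹Algebra.FiniteType A B›
  refine pcHom_iff.2 ⟨n, φ, hφ, fun k => ?_⟩
  letI := φ.toRingHom.toAlgebra
  haveI : IsScalarTower A (MvPolynomial (Fin n) A) B := .of_algHom φ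
  let R := MvPolynomial (Fin n) A
  letI : Algebra R C := ((algebraMap B C).comp φ.toRingHom).toAlgebra
  haveI : IsScalarTower R B C := .of_algebraMap_eq fun _ => rfl
  haveI : IsScalarTower A R C := .of_algebraMap_eq fun a => by
    show algebraMap A C a = algebraMap B C (φ (algebraMap A _ a))
    rw [φ.commutes, ← IsScalarTower.algebraMap_apply]
  obtain ⟨t, ht, hstd⟩ := AlgSpLib.exists_standard_cover (A := B) (B := C)
  have hlift : ∀ b : t, ∃ (pr : StandardEtalePair R) (σ : pr.Ring →ₐ[R] Localization.Away b.1),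
      Surjective σ ∧ RingHom.ker σ = (RingHom.ker (algebraMap R B)).map (algebraMap R pr.Ring) := fun b =>
    haveI := hstd b b.2
    AlgSpLib.exists_lift_standardEtale hφ
  choose pr σ hσs hσk using hlift
  -- the pieces of the cover of the spectrum of the polynomial ring
  let W : Set (PrimeSpectrum R) := ⋃ b : t, Set.range (PrimeSpectrum.comap (algebraMap R (pr b).Ring))
  have hW : IsOpen W := isOpen_iUnion fun b =>
    (PrimeSpectrum.isOpenMap_comap_of_hasGoingDown_of_finitePresentation).isOpen_range
  let I : Ideal R := RingHom.ker (algebraMap R B)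
  have hVI : PrimeSpectrum.zeroLocus (I : Set R) ⊆ W := by
    intro P hP
    obtain ⟨P', hP'⟩ : P ∈ Set.range (PrimeSpectrum.comap (algebraMap R B)) := by
      rw [range_comap_of_surjective _ (algebraMap R B) hφ]; exact hP
    obtain ⟨Q, hQ⟩ := PrimeSpectrum.comap_surjective_of_faithfullyFlat (A := B) (B := C) P'
    obtain ⟨b, hb, hbQ⟩ : ∃ b ∈ t, b ∉ Q.asIdeal := by
      by_contra hcon
      push Not at hcon
      exact Q.2.ne_top (top_le_iff.1 (ht.symm.le.trans (Ideal.span_le.2 hcon)))
    obtain ⟨Q', hQ'⟩ : Q ∈ Set.range (PrimeSpectrum.comap (algebraMap C (Localization.Away b))) := by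
      rw [PrimeSpectrum.localization_away_comap_range _ b]; exact hbQ
    refine Set.mem_iUnion.2 ⟨⟨b, hb⟩, PrimeSpectrum.comap (σ ⟨b, hb⟩).toRingHom Q', ?_⟩
    rw [← hP', ← hQ, ← hQ', ← PrimeSpectrum.comap_comp_apply, ← PrimeSpectrum.comap_comp_apply,
      ← PrimeSpectrum.comap_comp_apply]
    congr 1
    exact RingHom.ext fun x => ((σ ⟨b, hb⟩).commutes x).trans
      (IsScalarTower.algebraMap_apply R C (Localization.Away b) x)
  -- one element of the ideal covers the rest
  obtain ⟨Z, hZ⟩ : ∃ Z : Ideal R, PrimeSpectrum.zeroLocus (Z : Set R) = Wᶜ := by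
    obtain ⟨K, hK⟩ := (PrimeSpectrum.isClosed_iff_zeroLocus_ideal _).1 hW.isClosed_compl
    exact ⟨K, hK.symm⟩
  have htop : I ⊔ Z = ⊤ := by
    rw [← PrimeSpectrum.zeroLocus_empty_iff_eq_top, PrimeSpectrum.zeroLocus_sup, hZ]
    exact Set.eq_empty_of_forall_notMem fun P hP => hP.2 (hVI hP.1)
  obtain ⟨h₀, hh₀, z, hz, hsum⟩ := Submodule.mem_sup.1 ((Ideal.eq_top_iff_one _).1 htop)
  let S : Option (Fin t.card) → Type u := fun o =>
    o.elim (Localization.Away h₀) fun j => (pr (t.equivFin.symm j)).Ring
  letI : ∀ o, CommRing (S o) := fun o => by cases o <;> dsimp only [S, Option.elim] <;> infer_instance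
  letI : ∀ o, Algebra R (S o) := fun o => by cases o <;> dsimp only [S, Option.elim] <;> infer_instance
  haveI : ∀ o, Module.Flat R (S o) := fun o => by
    cases o with
    | none => exact IsLocalization.flat (Localization.Away h₀) (Submonoid.powers h₀)
    | some j => exact (inferInstance : Module.Flat R (pr (t.equivFin.symm j)).Ring)
  refine pc_of_family S (fun P => ?_) k B fun o => ?_
  · by_cases hP : h₀ ∈ P.asIdeal
    · have hPW : P ∈ W := by
        by_contra hP'
        have hzP : z ∈ P.asIdeal := (hZ.symm.le hP' : P ∈ PrimeSpectrum.zeroLocus (Z : Set R)) hz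
        exact P.2.ne_top ((Ideal.eq_top_iff_one _).2 (hsum ▸ add_mem hP hzP))
      obtain ⟨b, hb⟩ := Set.mem_iUnion.1 hPW
      refine ⟨some (t.equivFin b), ?_⟩
      show P ∈ Set.range (PrimeSpectrum.comap (algebraMap R (pr (t.equivFin.symm (t.equivFin b))).Ring))
      rw [Equiv.symm_apply_apply]
      exact hb
    · refine ⟨none, ?_⟩
      show P ∈ Set.range (PrimeSpectrum.comap (algebraMap R (Localization.Away h₀)))
      rw [PrimeSpectrum.localization_away_comap_range _ h₀]
      exact hP
  · cases o with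
    | none =>
      haveI : Subsingleton (Localization.Away h₀ ⊗[R] B) := subsingleton_away_tensor hh₀
      exact pc_free (R := Localization.Away h₀) (M := Localization.Away h₀ ⊗[R] B) k
    | some j => exact pc_lift φ hφ h (σ (t.equivFin.symm j)) (hσs _) (hσk _) k

end Etale

end Groth.Agent.FlatMorPerfect
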