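import Groth.Agent.FlatMorPerfect.Hom
import Groth.Agent.FlatMorPerfect.TorDim
import Mathlib.RingTheory.LocalProperties.Basic
import Mathlib.Algebra.Module.LocalizedModule.Exact

/-!
# Pseudo-coherence and perfectness are local properties of ring maps
-/

universe u

set_option autoImplicit false
set_option backward.isDefEq.respectTransparency false
set_option linter.style.haveILetI false

open TensorProduct Function

attribute [local instance] HasDerivedCategory.standard
attribute [local instance] MvPolynomial.algebraMvPolynomial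

namespace Groth.Agent.FlatMorPerfect

/-- Pseudo-coherence of a ring map. -/
def RingPC {A B : Type u} [CommRing A] [CommRing B] (f : A →+* B) : Prop :=
  letI := f.toAlgebra; MoreMor.IsPseudoCoherentHom A B

/-- Finite tor dimension of a ring map. -/
def RingTD {A B : Type u} [CommRing A] [CommRing B] (f : A →+* B) : Prop :=
  letI := f.toAlgebra; ∃ n, TD A n B

/-- Perfectness of a ring map. -/
def RingPerf {A B : Type u} [CommRing A] [CommRing B] (f : A →+* B) : Prop :=
  letI := f.toAlgebra; MoreMor.IsPerfectHom A B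

section

variable {A B C : Type u} [CommRing A] [CommRing B] [CommRing C]

theorem ringPerf_iff (f : A →+* B) : RingPerf f ↔ RingPC f ∧ RingTD f := by
  letI := f.toAlgebra
  exact and_congr Iff.rfl hasFiniteTorDim_iff

theorem ringPC_algebraMap [Algebra A B] : RingPC (algebraMap A B) ↔ MoreMor.IsPseudoCoherentHom A B := by
  show @MoreMor.IsPseudoCoherentHom A B _ _ (algebraMap A B).toAlgebra ↔ _
  rw [toAlgebra_algebraMap]

theorem ringTD_algebraMap [Algebra A B] : RingTD (algebraMap A B) ↔ ∃ n, TD A n B := by
  show (∃ n, @TD A _ n B _ (algebraMap A B).toAlgebra.toModule) ↔ _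
  rw [toAlgebra_algebraMap]

theorem RingPC.comp {f : A →+* B} {g : B →+* C} (hf : RingPC f) (hg : RingPC g) : RingPC (g.comp f) := by
  letI := f.toAlgebra
  letI := g.toAlgebra
  letI := (g.comp f).toAlgebra
  haveI : IsScalarTower A B C := .of_algebraMap_eq fun _ => rfl
  exact pcHom_comp hf hg

theorem RingTD.comp {f : A →+* B} {g : B →+* C} (hf : RingTD f) (hg : RingTD g) : RingTD (g.comp f) := by
  letI := f.toAlgebra
  letI := g.toAlgebra
  letI := (g.comp f).toAlgebra
  haveI : IsScalarTower A B C := .of_algebraMap_eq fun _ => rfl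
  obtain ⟨a, ha⟩ := hf
  obtain ⟨b, hb⟩ := hg
  exact ⟨a + b, td_comp ha b C hb⟩

theorem RingPerf.comp {f : A →+* B} {g : B →+* C} (hf : RingPerf f) (hg : RingPerf g) :
    RingPerf (g.comp f) := by
  rw [ringPerf_iff] at hf hg ⊢
  exact ⟨hf.1.comp hg.1, hf.2.comp hg.2⟩

/-- Flat maps of finite presentation are perfect. -/
theorem ringPerf_of_flat (f : A →+* B) (hf : f.Flat) (hfp : f.FinitePresentation) : RingPerf f := by
  letI := f.toAlgebra
  haveI : Module.Flat A B := hf
  haveI : Algebra.FinitePresentation A B := hfp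
  exact FlatCx12.PerfectHom.perfectHom_of_flat A B

theorem ringPerf_away [Algebra A B] (a : A) [IsLocalization.Away a B] : RingPerf (algebraMap A B) :=
  ringPerf_of_flat _ (RingHom.flat_algebraMap_iff.2 (IsLocalization.flat B (Submonoid.powers a)))
    (RingHom.finitePresentation_algebraMap.2 (IsLocalization.Away.finitePresentation a))

theorem ringPerf_equiv (e : A ≃+* B) : RingPerf e.toRingHom :=
  ringPerf_of_flat _ (RingHom.Flat.of_bijective e.bijective) (.of_bijective e.bijective)

end

section Span

variable {A B : Type u} [CommRing A] [CommRing B] [Algebra A B]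

/-- Tor dimension is local on the target. -/
theorem td_of_span {n : ℕ} (t : Finset B) (ht : Ideal.span (t : Set B) = ⊤)
    (h : ∀ g : t, TD A n (Localization.Away g.1)) : TD A n B := by
  intro X _ _ hX
  refine Tor15.torVanish_symm fun K F _ _ _ _ i p hip hp hi => ?_
  rw [← LinearMap.lTensor_inj_iff_rTensor_inj, injective_iff_map_eq_zero]
  intro z hz
  let J : Ideal B := (Submodule.span B ({z} : Set (B ⊗[A] K))).annihilator
  suffices hJ : J = ⊤ by
    have h1 : (1 : B) • z = 0 :=
      Submodule.mem_annihilator.1 (show (1 : B) ∈ J by rw [hJ]; trivial) z (Submodule.mem_span_singleton_self z)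
    rwa [one_smul] at h1
  have hpow : ∀ g : t, ∃ m : ℕ, g.1 ^ m ∈ J := by
    intro g
    let Bg := Localization.Away g.1
    let e := AlgebraTensorModule.cancelBaseChange A B Bg Bg K
    let eF := AlgebraTensorModule.cancelBaseChange A B Bg Bg F
    have h1 : Injective (i.lTensor Bg) := (LinearMap.lTensor_inj_iff_rTensor_inj Bg i).2
      (Tor15.torVanish_symm (h g X hX) i p hip hp hi)
    have hc : ∀ w : B ⊗[A] K, i.lTensor Bg (e ((1 : Bg) ⊗ₜ[B] w)) = eF ((1 : Bg) ⊗ₜ[B] i.lTensor B w) := by
      intro w
      induction w using TensorProduct.induction_on with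
      | zero => simp
      | add a b ha hb => simp only [tmul_add, map_add, ha, hb]
      | tmul b k => simp [e, eF]
    have h2 : (1 : Bg) ⊗ₜ[B] z = 0 := e.injective (h1 (by rw [hc, hz, tmul_zero, map_zero, map_zero, map_zero]))
    obtain ⟨⟨_, m, rfl⟩, hm⟩ := (IsLocalizedModule.eq_zero_iff (Submonoid.powers g.1)
      (TensorProduct.mk B Bg (B ⊗[A] K) 1)).1 h2
    exact ⟨m, (Submodule.mem_annihilator_span_singleton _ _).2 hm⟩
  by_contra hne
  obtain ⟨P, hP, hle⟩ := Ideal.exists_le_maximal J hne
  refine hP.ne_top (top_le_iff.1 (ht.symm.le.trans (Ideal.span_le.2 fun g hg => ?_)))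
  obtain ⟨m, hm⟩ := hpow ⟨g, hg⟩
  exact hP.isPrime.mem_of_pow_mem m (hle hm)

theorem isLeftRegular_C_mul_X_sub_one {R : Type u} [CommRing R] (r : R) :
    IsLeftRegular (Polynomial.C r * Polynomial.X - 1) := by
  refine isLeftRegular_iff_right_eq_zero_of_mul.2 fun p hp => Polynomial.ext fun n => ?_
  have hn : ∀ k, ((Polynomial.C r * Polynomial.X - 1) * p).coeff k = 0 := fun k => by simp [hp]
  induction n with
  | zero =>
    have := hn 0
    simpa [sub_mul, mul_assoc] using this
  | succ n ih =>
    have := hn (n + 1)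
    simp [sub_mul, mul_assoc, Polynomial.coeff_X_mul] at this ⊢
    simp_all

theorem pcs_adjoinRoot {R : Type u} [CommRing R] (a : Polynomial R) (ha : IsLeftRegular a) :
    PCS (AdjoinRoot.mk a) :=
  pcs_of_ker AdjoinRoot.mk_surjective a ha Ideal.mk_ker

theorem exists_presentation_away {R : Type u} [CommRing R] (r : R) :
    ∃ q : MvPolynomial (Fin 1) R →+* Localization.Away r, PCS q ∧ Surjective q ∧
      ∀ x : R, q (MvPolynomial.C x) = algebraMap R (Localization.Away r) x := by
  let e1 := (MvPolynomial.finSuccEquiv R 0).toRingEquiv.toRingHom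
  let e2 := (Polynomial.mapEquiv (MvPolynomial.isEmptyRingEquiv R (Fin 0))).toRingHom
  let e3 := (Localization.awayEquivAdjoin r).symm.toRingEquiv.toRingHom
  refine ⟨e3.comp ((AdjoinRoot.mk (Polynomial.C r * Polynomial.X - 1)).comp (e2.comp e1)), ?_, ?_, fun x => ?_⟩
  · exact (((pcs_equiv _).comp (pcs_equiv _)).comp (pcs_adjoinRoot _ (isLeftRegular_C_mul_X_sub_one r))).comp
      (pcs_equiv _)
  · exact (Localization.awayEquivAdjoin r).symm.surjective.comp
      (AdjoinRoot.mk_surjective.comp ((Polynomial.mapEquiv (MvPolynomial.isEmptyRingEquiv R (Fin 0))).surjective.comp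
        (MvPolynomial.finSuccEquiv R 0).surjective))
  · have : e2 (e1 (MvPolynomial.C x)) = Polynomial.C x := by
      simp [e1, e2, MvPolynomial.finSuccEquiv_apply, MvPolynomial.isEmptyRingEquiv]
      exact MvPolynomial.coeff_zero_C x
    rw [RingHom.comp_apply, RingHom.comp_apply, RingHom.comp_apply, this]
    exact (Localization.awayEquivAdjoin r).symm.commutes x

theorem pc_of_pcHom_away {n : ℕ} (φ : MvPolynomial (Fin n) A →ₐ[A] B) (hφ : Surjective φ)
    (G : MvPolynomial (Fin n) A) (hG : MoreMor.IsPseudoCoherentHom A (Localization.Away (φ G))) (k : ℕ) :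
    letI := φ.toRingHom.toAlgebra
    PC (Localization.Away G) k (Localization.Away G ⊗[MvPolynomial (Fin n) A] B) := by
  letI := φ.toRingHom.toAlgebra
  let R := MvPolynomial (Fin n) A
  let RG := Localization.Away G
  let BG := Localization.Away (φ G)
  let μ : RG →+* BG := IsLocalization.Away.map RG BG φ.toRingHom G
  have hμ : ∀ x : R, μ (algebraMap R RG x) = algebraMap B BG (φ x) := fun x => IsLocalization.map_eq _ x
  letI : Algebra RG BG := μ.toAlgebra
  haveI : IsScalarTower R RG BG := .of_algebraMap_eq fun x => by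
    rw [IsScalarTower.algebraMap_apply R B BG]
    exact (hμ x).symm
  haveI : IsLocalization (Algebra.algebraMapSubmonoid B (Submonoid.powers G)) BG := by
    have : Algebra.algebraMapSubmonoid B (Submonoid.powers G) = Submonoid.powers (φ G) :=
      Submonoid.map_powers _ _
    rw [this]; infer_instance
  haveI hP : Algebra.IsPushout R RG B BG := (Algebra.isPushout_of_isLocalization (Submonoid.powers G) RG B BG).symm
  obtain ⟨e, -⟩ := exists_pushout_equiv R RG B BG hP
  obtain ⟨q, hq, hq1, hqC⟩ := exists_presentation_away G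
  have hμs : Surjective μ := by
    intro y
    obtain ⟨b, ⟨_, m, rfl⟩, rfl⟩ := IsLocalization.exists_mk'_eq (Submonoid.powers (φ G)) y
    obtain ⟨x, rfl⟩ := hφ b
    refine ⟨IsLocalization.mk' RG x (⟨G ^ m, m, rfl⟩ : Submonoid.powers G), ?_⟩
    show IsLocalization.map _ _ _ _ = _
    rw [IsLocalization.map_mk']
    congr 1
    exact Subtype.ext (map_pow φ G m)
  let γ : MvPolynomial (Fin 1) R →ₐ[A] BG :=
    { toRingHom := μ.comp q
      commutes' := fun a => by
        show μ (q (algebraMap A _ a)) = algebraMap A BG a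
        rw [IsScalarTower.algebraMap_apply A R (MvPolynomial (Fin 1) R), MvPolynomial.algebraMap_eq, hqC, hμ,
          φ.commutes, ← IsScalarTower.algebraMap_apply] }
  have hγ : Surjective γ := hμs.comp hq1
  have h1 : PCS μ := (hq.comp_iff μ).1 ((pcHom_iff_two γ hγ).1 hG)
  exact pc_congr e.symm (h1 k)

/-- Pseudo-coherence is local on the target. -/
theorem pcHom_of_span (t : Finset B) (ht : Ideal.span (t : Set B) = ⊤)
    (h : ∀ g : t, MoreMor.IsPseudoCoherentHom A (Localization.Away g.1)) :
    MoreMor.IsPseudoCoherentHom A B := by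
  classical
  haveI : Algebra.FiniteType A B := by
    refine RingHom.finiteType_algebraMap.1
      (RingHom.finiteType_ofLocalizationSpanTarget (algebraMap A B) (t : Set B) ht fun g => ?_)
    haveI := pcHom_finiteType (h g)
    rw [← IsScalarTower.algebraMap_eq]
    exact RingHom.finiteType_algebraMap.2 this
  obtain ⟨n, φ, hφ⟩ := Algebra.FiniteType.iff_quotient_mvPolynomial''.1 ‹Algebra.FiniteType A B›
  refine pcHom_iff.2 ⟨n, φ, hφ, fun k => ?_⟩
  letI := φ.toRingHom.toAlgebra
  have h1 : (1 : B) ∈ Ideal.span (t : Set B) := by rw [ht]; trivial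
  obtain ⟨c, hc⟩ := Submodule.mem_span_finset'.1 h1
  choose G hG using fun g : t => hφ g.1
  choose D hD using fun g : t => hφ (c g)
  let h₀ : MvPolynomial (Fin n) A := 1 - ∑ g : t, D g * G g
  have hh₀ : φ h₀ = 0 := by simp [h₀, hG, hD, ← hc]
  refine pc_of_span (insert h₀ (Finset.univ.image G)) ?_ k B fun a => ?_
  · rw [Ideal.eq_top_iff_one]
    have : (1 : MvPolynomial (Fin n) A) = h₀ + ∑ g : t, D g * G g := by simp [h₀]
    rw [this]
    refine Ideal.add_mem _ (Ideal.subset_span (by simp)) (Ideal.sum_mem _ fun g _ => ?_)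
    exact Ideal.mul_mem_left _ _ (Ideal.subset_span (by simp))
  · obtain ⟨a, ha⟩ := a
    rcases Finset.mem_insert.1 ha with rfl | ha
    · have hu : ∀ z : Localization.Away h₀ ⊗[MvPolynomial (Fin n) A] B, z = 0 := by
        intro z
        induction z using TensorProduct.induction_on with
        | zero => rfl
        | add x y hx hy => rw [hx, hy, add_zero]
        | tmul r b =>
          obtain ⟨u, hu⟩ := IsLocalization.Away.algebraMap_isUnit (S := Localization.Away h₀) h₀
          have : r ⊗ₜ[MvPolynomial (Fin n) A] b = (r * ↑u⁻¹) ⊗ₜ (h₀ • b) := by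
            rw [tmul_smul, smul_tmul', Algebra.smul_def, ← hu, mul_left_comm, Units.mul_inv, mul_one]
          rw [this, Algebra.smul_def, show algebraMap _ B h₀ = φ h₀ from rfl, hh₀, zero_mul, tmul_zero]
      haveI : Subsingleton (Localization.Away h₀ ⊗[MvPolynomial (Fin n) A] B) :=
        ⟨fun x y => (hu x).trans (hu y).symm⟩
      exact pc_free k
    · obtain ⟨g, -, rfl⟩ := Finset.mem_image.1 ha
      exact pc_of_pcHom_away φ hφ (G g) (by rw [hG g]; exact h g) k

end Span

section Properties

theorem ringPC_ofLocalizationSpanTarget : RingHom.OfLocalizationSpanTarget @RingPC := by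
  rw [RingHom.ofLocalizationSpanTarget_iff_finite]
  intro A B _ _ f t ht h
  letI := f.toAlgebra
  refine pcHom_of_span t ht fun g => ?_
  have := h g
  rw [← RingHom.algebraMap_toAlgebra f, ← IsScalarTower.algebraMap_eq, ringPC_algebraMap] at this
  exact this

theorem ringTD_ofLocalizationSpanTarget : RingHom.OfLocalizationSpanTarget @RingTD := by
  rw [RingHom.ofLocalizationSpanTarget_iff_finite]
  intro A B _ _ f t ht h
  letI := f.toAlgebra
  have h' : ∀ g : t, ∃ n, TD A n (Localization.Away g.1) := fun g => by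
    have := h g
    rw [← RingHom.algebraMap_toAlgebra f, ← IsScalarTower.algebraMap_eq, ringTD_algebraMap] at this
    exact this
  choose n hn using h'
  exact ⟨Finset.univ.sup n, td_of_span t ht fun g => (hn g).mono (Finset.le_sup (Finset.mem_univ g))⟩

theorem ringPerf_ofLocalizationSpanTarget : RingHom.OfLocalizationSpanTarget @RingPerf := fun _ _ _ _ f s hs h =>
  (ringPerf_iff f).2 ⟨ringPC_ofLocalizationSpanTarget f s hs fun r => ((ringPerf_iff _).1 (h r)).1,
    ringTD_ofLocalizationSpanTarget f s hs fun r => ((ringPerf_iff _).1 (h r)).2⟩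

theorem ringPC_baseChange {R S R' S' : Type u} [CommRing R] [CommRing S] [CommRing R'] [CommRing S']
    [Algebra R S] [Algebra R R'] [Algebra R S'] [Algebra S S'] [Algebra R' S'] [IsScalarTower R S S']
    [IsScalarTower R R' S'] [Algebra.IsPushout R R' S S'] [Module.Flat R R']
    (h : RingPC (algebraMap R S)) : RingPC (algebraMap R' S') :=
  ringPC_algebraMap.2 (pcHom_baseChange R' S' (ringPC_algebraMap.1 h))

theorem ringTD_baseChange {R S R' S' : Type u} [CommRing R] [CommRing S] [CommRing R'] [CommRing S']
    [Algebra R S] [Algebra R R'] [Algebra R S'] [Algebra S S'] [Algebra R' S'] [IsScalarTower R S S']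
    [IsScalarTower R R' S'] [Algebra.IsPushout R R' S S'] [Module.Flat R R']
    (h : RingTD (algebraMap R S)) : RingTD (algebraMap R' S') := by
  obtain ⟨n, hn⟩ := ringTD_algebraMap.1 h
  obtain ⟨e, -⟩ := exists_pushout_equiv R R' S S' ‹_›
  exact ringTD_algebraMap.2 ⟨n, td_congr e (hn.baseChange R')⟩

theorem ringPerf_baseChange {R S R' S' : Type u} [CommRing R] [CommRing S] [CommRing R'] [CommRing S']
    [Algebra R S] [Algebra R R'] [Algebra R S'] [Algebra S S'] [Algebra R' S'] [IsScalarTower R S S']
    [IsScalarTower R R' S'] [Algebra.IsPushout R R' S S'] [Module.Flat R R']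
    (h : RingPerf (algebraMap R S)) : RingPerf (algebraMap R' S') := by
  rw [ringPerf_iff] at h ⊢
  exact ⟨ringPC_baseChange h.1, ringTD_baseChange h.2⟩

theorem localizationAwayPreserves_of (P : ∀ {R S : Type u} [CommRing R] [CommRing S], (R →+* S) → Prop)
    (hP : ∀ {R S R' S' : Type u} [CommRing R] [CommRing S] [CommRing R'] [CommRing S']
      [Algebra R S] [Algebra R R'] [Algebra R S'] [Algebra S S'] [Algebra R' S'] [IsScalarTower R S S']
      [IsScalarTower R R' S'] [Algebra.IsPushout R R' S S'] [Module.Flat R R'],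
      P (algebraMap R S) → P (algebraMap R' S')) : RingHom.LocalizationAwayPreserves P := by
  intro R S _ _ f r R' S' _ _ _ _ _ _ hf
  letI := f.toAlgebra
  letI : Algebra R S' := ((algebraMap S S').comp f).toAlgebra
  haveI : IsScalarTower R S S' := .of_algebraMap_eq fun _ => rfl
  let μ := IsLocalization.Away.map R' S' f r
  letI : Algebra R' S' := μ.toAlgebra
  haveI : IsScalarTower R R' S' := .of_algebraMap_eq fun x => by
    show _ = μ (algebraMap R R' x)
    exact (IsLocalization.map_eq _ x).symm
  haveI : IsLocalization (Algebra.algebraMapSubmonoid S (Submonoid.powers r)) S' := by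
    have : Algebra.algebraMapSubmonoid S (Submonoid.powers r) = Submonoid.powers (f r) :=
      Submonoid.map_powers _ _
    rw [this]; infer_instance
  haveI : Algebra.IsPushout R R' S S' := (Algebra.isPushout_of_isLocalization (Submonoid.powers r) R' S S').symm
  haveI : Module.Flat R R' := IsLocalization.flat R' (Submonoid.powers r)
  exact hP (R := R) (S := S) (R' := R') (S' := S') hf

theorem ofLocalizationSpan_of (P : ∀ {R S : Type u} [CommRing R] [CommRing S], (R →+* S) → Prop)
    (h1 : RingHom.OfLocalizationSpanTarget P) (h2 : RingHom.StableUnderComposition P)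
    (h3 : ∀ {R : Type u} [CommRing R] (r : R), P (algebraMap R (Localization.Away r))) :
    RingHom.OfLocalizationSpan P := by
  intro R S _ _ f s hs h
  refine h1 f (f '' s) ?_ ?_
  · rw [← Ideal.map_span, hs, Ideal.map_top]
  · rintro ⟨_, r, hr, rfl⟩
    have := h2 _ _ (h3 r) (h ⟨r, hr⟩)
    rwa [show (algebraMap S (Localization.Away (f r))).comp f =
      (Localization.awayMap f r).comp (algebraMap R (Localization.Away r)) from
      (IsLocalization.map_comp _).symm]

theorem ringPC_stableUnderComposition : RingHom.StableUnderComposition @RingPC :=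
  fun _ _ _ _ _ _ _ _ hf hg => hf.comp hg

theorem ringPerf_stableUnderComposition : RingHom.StableUnderComposition @RingPerf :=
  fun _ _ _ _ _ _ _ _ hf hg => hf.comp hg

theorem ringPC_isLocal : RingHom.PropertyIsLocal @RingPC where
  localizationAwayPreserves := localizationAwayPreserves_of @RingPC fun {_ _ _ _} _ _ _ _ _ _ _ _ _ _ _ _ _ h =>
    ringPC_baseChange h
  ofLocalizationSpanTarget := ringPC_ofLocalizationSpanTarget
  ofLocalizationSpan := ofLocalizationSpan_of _ ringPC_ofLocalizationSpanTarget ringPC_stableUnderComposition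
    fun r => ((ringPerf_iff _).1 (ringPerf_away r)).1
  StableUnderCompositionWithLocalizationAwayTarget := fun _ _ T _ _ _ _ s _ _ hf =>
    hf.comp ((ringPerf_iff _).1 (ringPerf_away (B := T) s)).1

theorem ringPerf_isLocal : RingHom.PropertyIsLocal @RingPerf where
  localizationAwayPreserves := localizationAwayPreserves_of @RingPerf fun {_ _ _ _} _ _ _ _ _ _ _ _ _ _ _ _ _ h =>
    ringPerf_baseChange h
  ofLocalizationSpanTarget := ringPerf_ofLocalizationSpanTarget
  ofLocalizationSpan := ofLocalizationSpan_of _ ringPerf_ofLocalizationSpanTarget ringPerf_stableUnderComposition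
    fun r => ringPerf_away r
  StableUnderCompositionWithLocalizationAwayTarget := fun _ _ T _ _ _ _ s _ _ hf =>
    hf.comp (ringPerf_away (B := T) s)

theorem ringPC_respectsIso : RingHom.RespectsIso @RingPC :=
  ringPC_stableUnderComposition.respectsIso fun e => ((ringPerf_iff _).1 (ringPerf_equiv e)).1

theorem ringPerf_respectsIso : RingHom.RespectsIso @RingPerf :=
  ringPerf_stableUnderComposition.respectsIso fun e => ringPerf_equiv e

theorem ringPC_codescendsAlong : RingHom.CodescendsAlong @RingPC RingHom.FaithfullyFlat :=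
  .mk _ ringPC_respectsIso fun R S T _ _ _ _ _ hS h => by
    haveI : Module.FaithfullyFlat R S := RingHom.faithfullyFlat_algebraMap_iff.1 hS
    letI : Algebra T (S ⊗[R] T) := Algebra.TensorProduct.rightAlgebra
    exact ringPC_algebraMap.2 (pcHom_descend S (S ⊗[R] T) (ringPC_algebraMap.1 h))

theorem ringPerf_codescendsAlong : RingHom.CodescendsAlong @RingPerf RingHom.FaithfullyFlat :=
  .mk _ ringPerf_respectsIso fun R S T _ _ _ _ _ hS h => by
    haveI : Module.FaithfullyFlat R S := RingHom.faithfullyFlat_algebraMap_iff.1 hS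
    letI : Algebra T (S ⊗[R] T) := Algebra.TensorProduct.rightAlgebra
    rw [ringPerf_iff] at h ⊢
    refine ⟨ringPC_algebraMap.2 (pcHom_descend S (S ⊗[R] T) (ringPC_algebraMap.1 h.1)), ?_⟩
    obtain ⟨n, hn⟩ := ringTD_algebraMap.1 h.2
    have h2 : TD R n (S ⊗[R] T) := td_of_flatDimLE (hn.flatDimLE.restrictScalars)
    haveI : Module.FaithfullyFlat T (S ⊗[R] T) :=
      Module.FaithfullyFlat.of_linearEquiv _ _
        (Algebra.IsPushout.equiv R T S (S ⊗[R] T)).toLinearEquiv.symm
    exact ringTD_algebraMap.2 ⟨n, td_of_faithfullyFlat (S ⊗[R] T) h2⟩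

end Properties

end Groth.Agent.FlatMorPerfect
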